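import Cfsg.Agent.Lib.Chevalley.Poincare

/-!
Excluding divisors of a group order just below a given polynomial value, by a remainder.
-/

set_option autoImplicit false

namespace CfsgLib.KnownA.MinDegLaced

open CfsgLib.Chevalley

/-- The absolute values of the coefficients. -/
def pAbs (l : List ℤ) : List ℤ := l.map fun a => (a.natAbs : ℤ)

/-- The value less `j`. -/
def shift (t : List ℤ) (j : ℕ) : List ℤ := pAdd t [-(j : ℤ)]

/-- The remainder `low + c x ^ low.length` is that of `j` times the product, and is small beyond `B`. -/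
def redOK (t : List ℤ) (degs : List ℕ) (j B : ℕ) (Q low : List ℤ) (c : ℤ) : Bool :=
  pIsZero (pAdd (pScale (j : ℤ) ((degs.map pCyc).foldr pMul [1]))
    (pScale (-1) (pAdd (pMul Q (shift t j)) (low ++ [c])))) &&
  decide (pEval (pAbs low) B < (c.natAbs : ℤ) * (B : ℤ) ^ low.length) &&
  decide (pEval (pAbs (low ++ [c])) B < (B : ℤ) ^ (low.length + 1)) && Nat.blt 0 B

/-- Evaluation in the natural numbers. -/
def nEval (l : List ℕ) (x : ℕ) : ℕ := List.rec 0 (fun a _ acc => Nat.add a (Nat.mul x acc)) l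

/-- The positive parts of the coefficients. -/
def posP (l : List ℤ) : List ℕ := l.map Int.toNat

/-- The negative parts of the coefficients. -/
def negP (l : List ℤ) : List ℕ := l.map fun a => (-a).toNat

/-- The remainder is no multiple, below `128 * a`. -/
def smallOK (t : List ℕ) (lo a j : ℕ) (P N : List ℕ) : Bool :=
  allLt (fun u => allLt (fun w => Nat.blt (128 * u + w) lo ||
    !(Nat.beq (nEval P (128 * u + w) % (nEval t (128 * u + w) - j))
      (nEval N (128 * u + w) % (nEval t (128 * u + w) - j)))) 128) a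

theorem pEval_nEval : ∀ (l : List ℕ) (x : ℕ), pEval (l.map fun a : ℕ => (a : ℤ)) x = ((nEval l x : ℕ) : ℤ)
  | [], x => rfl
  | a :: l, x => by
    show (a : ℤ) + (x : ℤ) * pEval (l.map fun a : ℕ => (a : ℤ)) x = ((a + x * nEval l x : ℕ) : ℤ)
    rw [pEval_nEval l x]
    push_cast
    rfl

theorem pEval_parts : ∀ (l : List ℤ) (x : ℕ),
    pEval l x = (nEval (posP l) x : ℤ) - (nEval (negP l) x : ℤ)
  | [], x => rfl
  | a :: l, x => by
    show a + (x : ℤ) * pEval l x =
      ((a.toNat + x * nEval (posP l) x : ℕ) : ℤ) - (((-a).toNat + x * nEval (negP l) x : ℕ) : ℤ)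
    rw [pEval_parts l x]
    push_cast
    linear_combination -(Int.toNat_sub_toNat_neg a)

theorem pEval_abs (l : List ℤ) {x : ℤ} (hx : 0 ≤ x) : |pEval l x| ≤ pEval (pAbs l) x := by
  induction l with
  | nil => simp [pAbs, pEval]
  | cons a l ih =>
    simp only [pAbs, List.map_cons, pEval] at ih ⊢
    refine (abs_add_le _ _).trans (add_le_add (by simp) ?_)
    rw [abs_mul, abs_of_nonneg hx]
    exact mul_le_mul_of_nonneg_left ih hx

theorem pEval_abs_growth : ∀ (l : List ℤ) (d : ℕ), l.length ≤ d + 1 → ∀ {x B : ℤ}, 0 ≤ B → B ≤ x →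
    pEval (pAbs l) x * B ^ d ≤ pEval (pAbs l) B * x ^ d := by
  intro l
  induction l with
  | nil => intros; simp [pAbs, pEval]
  | cons a l ih =>
    intro d hd x B hB hx
    simp only [pAbs, List.map_cons, pEval] at ih ⊢
    cases d with
    | zero =>
      obtain rfl : l = [] := List.eq_nil_of_length_eq_zero (by simpa using hd)
      simp [pEval]
    | succ d =>
      have h := ih d (by simpa using hd) hB hx
      have h1 : (a.natAbs : ℤ) * B ^ (d + 1) ≤ (a.natAbs : ℤ) * x ^ (d + 1) :=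
        mul_le_mul_of_nonneg_left (pow_le_pow_left₀ hB hx _) (Int.natCast_nonneg _)
      have h2 := mul_le_mul_of_nonneg_left h (mul_nonneg (hB.trans hx) hB)
      rw [pow_succ, pow_succ] at h1 ⊢
      linear_combination h1 + h2

theorem pEval_concat (c x : ℤ) : ∀ l : List ℤ, pEval (l ++ [c]) x = pEval l x + c * x ^ l.length
  | [] => by simp [pEval]
  | a :: l => by rw [List.cons_append, pEval, pEval, pEval_concat c x l, List.length_cons, pow_succ]; ring

theorem pEval_shift (t : List ℤ) (j : ℕ) (x : ℤ) : pEval (shift t j) x = pEval t x - j := by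
  rw [shift, pEval_add]; simp [pEval]; ring

/-- A divisor of `q ^ h * M` just below a multiple of a prime power `q > j` divides `j * M`. -/
theorem dvd_mul_of_below {q k j h M s : ℕ} (hq : IsPrimePow q) (hk : k + j = q * s) (hj : 0 < j)
    (hjq : j < q) (hd : k ∣ q ^ h * M) : k ∣ j * M := by
  obtain ⟨p, a, hp, ha, rfl⟩ := (isPrimePow_nat_iff q).1 hq
  obtain ⟨k1, k2, h1, h2, rfl⟩ := (Nat.dvd_mul).1 hd
  rw [← pow_mul] at h1
  obtain ⟨b, -, rfl⟩ := (Nat.dvd_prime_pow hp).1 h1
  refine mul_dvd_mul ?_ h2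
  rcases le_or_gt a b with hab | hab
  · exfalso
    have hdj : p ^ a ∣ j := (Nat.dvd_add_right (dvd_mul_of_dvd_left (pow_dvd_pow p hab) k2)).1
      (hk ▸ dvd_mul_right _ _)
    exact absurd (Nat.le_of_dvd hj hdj) (not_le.2 hjq)
  · exact (Nat.dvd_add_right (dvd_mul_right (p ^ b) k2)).1
      (hk ▸ dvd_mul_of_dvd_left (pow_dvd_pow p hab.le) s)

/-- The exclusion. -/
theorem not_dvd_order {t : List ℕ} {Q low : List ℤ} {c : ℤ} {degs : List ℕ} {j B lo a q k s h : ℕ}
    (hr : redOK (t.map fun a : ℕ => (a : ℤ)) degs j B Q low c = true)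
    (hs : smallOK t lo a j (posP (low ++ [c])) (negP (low ++ [c])) = true) (hBa : B ≤ 128 * a)
    (hlo : lo ≤ q) (hq : IsPrimePow q) (hj : 0 < j) (hjq : j < q)
    (ht : nEval t q = q * s) (hk : k + j = q * s) (hkq : q ^ (low.length + 1) ≤ k)
    (hd : k ∣ q ^ h * (degs.map fun e => q ^ e - 1).prod) : False := by
  have hq2 := hq.two_le
  simp only [redOK, Bool.and_eq_true, decide_eq_true_eq] at hr
  obtain ⟨⟨⟨hid, hlow⟩, hall⟩, hB⟩ := hr
  have hk' : pEval (shift (t.map fun a : ℕ => (a : ℤ)) j) q = (k : ℤ) := by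
    rw [pEval_shift, pEval_nEval, ht, ← hk]; push_cast; ring
  have hkpos : 0 < k := lt_of_lt_of_le (pow_pos (by omega) _) hkq
  have hdvd : (k : ℤ) ∣ pEval (low ++ [c]) q := by
    have e := pEval_zero _ (q : ℤ) hid
    rw [pEval_add, pEval_scale, pEval_scale, pEval_add, pEval_mul, pEval_foldr, hk', List.map_map] at e
    have hN : (((degs.map fun e => q ^ e - 1).prod : ℕ) : ℤ) =
        (degs.map ((fun l => pEval l (q : ℤ)) ∘ pCyc)).prod := by
      rw [Nat.cast_list_prod, List.map_map]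
      congr 1
      refine List.map_congr_left fun e _ => ?_
      simp only [Function.comp, pEval_cyc]
      rw [Nat.cast_sub (Nat.one_le_pow _ _ (by omega))]
      push_cast; ring
    have hd' := Int.natCast_dvd_natCast.2 (dvd_mul_of_below hq hk hj hjq hd)
    rw [Nat.cast_mul, hN] at hd'
    have := dvd_sub hd' (dvd_mul_left (k : ℤ) (pEval Q q))
    rwa [show pEval (low ++ [c]) (q : ℤ) =
      (j : ℤ) * (degs.map ((fun l => pEval l (q : ℤ)) ∘ pCyc)).prod - pEval Q q * k by linear_combination -e]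
  rcases Nat.lt_or_ge q (128 * a) with hlt | hge
  · have h1 := allLt_iff.1 hs (q / 128) (by omega)
    have h2 := allLt_iff.1 h1 (q % 128) (Nat.mod_lt _ (by norm_num))
    rw [Nat.div_add_mod] at h2
    simp only [Bool.or_eq_true, Bool.not_eq_true'] at h2
    rcases h2 with h2 | h2
    · have := Nat.le_of_ble_eq_true h2; omega
    · rw [ht, ← hk, Nat.add_sub_cancel] at h2
      rw [pEval_parts] at hdvd
      have e := Int.natCast_inj.1 (show (((nEval (posP (low ++ [c])) q % k : ℕ)) : ℤ) =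
        ((nEval (negP (low ++ [c])) q % k : ℕ) : ℤ) by
          push_cast; exact (Int.modEq_iff_dvd.2 hdvd).symm)
      rw [e, Nat.beq_refl] at h2
      simp at h2
  · have hBq : (B : ℤ) ≤ (q : ℤ) := by exact_mod_cast hBa.trans hge
    have hB0 : (0 : ℤ) < (B : ℤ) := by exact_mod_cast Nat.le_of_ble_eq_true hB
    have hB' : (0 : ℤ) ≤ (B : ℤ) := hB0.le
    have hx : (0 : ℤ) ≤ (q : ℤ) := hB'.trans hBq
    have hxp : (0 : ℤ) < (q : ℤ) := hB0.trans_le hBq
    set d := low.length
    have g1 : pEval (pAbs (low ++ [c])) q * (B : ℤ) ^ d ≤ pEval (pAbs (low ++ [c])) B * (q : ℤ) ^ d :=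
      pEval_abs_growth _ d (by simp [d]) hB' hBq
    have g2 : pEval (pAbs low) q * (B : ℤ) ^ d ≤ pEval (pAbs low) B * (q : ℤ) ^ d :=
      pEval_abs_growth _ d (by simp [d]) hB' hBq
    have hBd : (0 : ℤ) < (B : ℤ) ^ d := pow_pos hB0 d
    have hqd : (0 : ℤ) < (q : ℤ) ^ d := pow_pos hxp d
    have f1 : pEval (pAbs (low ++ [c])) q < (q : ℤ) ^ (d + 1) := by
      refine lt_of_mul_lt_mul_right (lt_of_le_of_lt g1 ?_) hBd.le
      calc _ < (B : ℤ) ^ (d + 1) * (q : ℤ) ^ d := mul_lt_mul_of_pos_right hall hqd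
        _ ≤ _ := by
          rw [pow_succ, pow_succ]
          nlinarith [mul_le_mul_of_nonneg_left hBq (mul_nonneg hBd.le hqd.le)]
    have f2 : pEval (pAbs low) q < |c| * (q : ℤ) ^ d := by
      refine lt_of_mul_lt_mul_right (lt_of_le_of_lt g2 ?_) hBd.le
      rw [Int.natCast_natAbs] at hlow
      calc _ < |c| * (B : ℤ) ^ d * (q : ℤ) ^ d := mul_lt_mul_of_pos_right hlow hqd
        _ = _ := by ring
    have hne : pEval (low ++ [c]) (q : ℤ) ≠ 0 := fun e => by
      rw [pEval_concat] at e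
      have e' : pEval low (q : ℤ) = -(c * (q : ℤ) ^ d) := eq_neg_of_add_eq_zero_left e
      have := pEval_abs low hx
      rw [e', abs_neg, abs_mul, abs_of_pos hqd] at this
      linarith
    have hle : (k : ℤ) ≤ |pEval (low ++ [c]) (q : ℤ)| :=
      Int.le_of_dvd (abs_pos.2 hne) ((dvd_abs _ _).2 hdvd)
    have hkq' : (q : ℤ) ^ (d + 1) ≤ (k : ℤ) := by exact_mod_cast hkq
    have := pEval_abs (low ++ [c]) hx
    linarith

/-- The exponents give the bound, less `r`. -/
theorem count_eq (l : List ℕ) (t : List ℕ) (r q : ℕ) (hq : 1 ≤ q)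
    (hc : pIsZero (pAdd (pAdd (pMul [-1, 1] (pHist l)) [(r : ℤ)])
      (pScale (-1) (t.map fun a : ℕ => (a : ℤ)))) = true) :
    (q - 1) * (l.map (q ^ ·)).sum + r = nEval t q := by
  have e := pEval_zero _ (q : ℤ) hc
  rw [pEval_add, pEval_add, pEval_mul, pEval_hist, pEval_scale, pEval_nEval] at e
  simp only [pEval, mul_zero, add_zero, mul_one] at e
  apply Int.natCast_inj.1
  rw [Nat.cast_add, Nat.cast_mul, Nat.cast_sub hq, Nat.cast_list_sum, List.map_map]
  have e' : (List.map (Nat.cast ∘ fun x : ℕ => q ^ x) l : List ℤ) = l.map ((q : ℤ) ^ ·) :=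
    List.map_congr_left fun x _ => by simp
  rw [e']
  push_cast
  linear_combination e

end CfsgLib.KnownA.MinDegLaced
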