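import Cfsg.Agent.Lib.KnownA.MinDegLaced.Arith

/-!
Remainders for the values just below the bound in type E6.
-/

set_option autoImplicit false
set_option maxRecDepth 100000
set_option maxHeartbeats 4000000

namespace CfsgLib.KnownA.MinDegLaced.E6

open CfsgLib.Chevalley

/-- The bound, as a polynomial. -/
def target : List ℕ := [0, 1, 0, 0, 1, 1, 0, 1, 1, 0, 0, 1]

/-- The degrees. -/
def degs : List ℕ := [2, 5, 6, 8, 9, 12]

/-- The quotient for 1. -/
def quo1 : List ℤ := [-27, -15, 4, 10, 19, 11, 6, -3, -9, -8, -5, -2, 2, 6, 3, 3, -1, -1, -3, -3, 0, 0, 1, 2, 2, 0, 0,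
  -1, -1, -1, 0, 1]

/-- The lower part of the remainder for 1. -/
def low1 : List ℤ := [-26, 12, 18, 6, 36, 33, 5, 5, 7, -19]

theorem red1 : redOK (target.map fun a : ℕ => (a : ℤ)) degs 1 28 quo1 low1 (-27) = true := by decide +kernel

theorem small1 : smallOK target 7 1 1
    (posP (low1 ++ [-27])) (negP (low1 ++ [-27])) = true := by decide +kernel

/-- The quotient for 2. -/
def quo2 : List ℤ := [-116, -34, 58, 62, 84, 32, 8, -20, -38, -28, -18, -2, 12, 22, 10, 8, -6, -6, -8, -6, 2, 0, 2, 4,
  4, 0, 0, -2, -2, -2, 0, 2]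

/-- The lower part of the remainder for 2. -/
def low2 : List ℤ := [-230, 48, 148, 66, 222, 128, -42, -50, -52, -160]

theorem red2 : redOK (target.map fun a : ℕ => (a : ℤ)) degs 2 167 quo2 low2 (-166) = true := by decide +kernel

theorem small2 : smallOK target 7 2 2
    (posP (low2 ++ [-166])) (negP (low2 ++ [-166])) = true := by decide +kernel

/-- The quotient for 3. -/
def quo3 : List ℤ := [-279, -21, 222, 186, 207, 45, -12, -57, -87, -54, -39, 0, 30, 48, 21, 15, -15, -15, -15, -9, 6,
  0, 3, 6, 6, 0, 0, -3, -3, -3, 0, 3]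

/-- The lower part of the remainder for 3. -/
def low3 : List ℤ := [-834, 216, 684, 336, 714, 225, -285, -285, -297, -531]

theorem red3 : redOK (target.map fun a : ℕ => (a : ℤ)) degs 3 503 quo3 low3 (-501) = true := by decide +kernel

theorem small3 : smallOK target 7 4 3
    (posP (low3 ++ [-501])) (negP (low3 ++ [-501])) = true := by decide +kernel

/-- The quotient for 4. -/
def quo4 : List ℤ := [-528, 60, 556, 412, 400, 32, -72, -120, -156, -80, -68, 4, 56, 84, 36, 24, -28, -28, -24, -12,
  12, 0, 4, 8, 8, 0, 0, -4, -4, -4, 0, 4]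

/-- The lower part of the remainder for 4. -/
def low4 : List ℤ := [-2108, 768, 2160, 1092, 1716, 192, -940, -844, -848, -1216]

theorem red4 : redOK (target.map fun a : ℕ => (a : ℤ)) degs 4 1118 quo4 low4 (-1116) = true := by decide +kernel

theorem small4 : smallOK target 7 9 4
    (posP (low4 ++ [-1116])) (negP (low4 ++ [-1116])) = true := by decide +kernel

/-- The quotient for 5. -/
def quo5 : List ℤ := [-875, 245, 1120, 770, 675, -25, -190, -215, -245, -100, -105, 10, 90, 130, 55, 35, -45, -45, -35,
  -15, 20, 0, 5, 10, 10, 0, 0, -5, -5, -5, 0, 5]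

/-- The lower part of the remainder for 5. -/
def low5 : List ℤ := [-4370, 2100, 5350, 2730, 3480, -175, -2295, -1895, -1825, -2275]

theorem red5 : redOK (target.map fun a : ℕ => (a : ℤ)) degs 5 2097 quo5 low5 (-2095) = true := by decide +kernel

theorem small5 : smallOK target 7 17 5
    (posP (low5 ++ [-2095])) (negP (low5 ++ [-2095])) = true := by decide +kernel

/-- The quotient for 6. -/
def quo6 : List ℤ := [-1332, 570, 1974, 1290, 1044, -144, -384, -348, -354, -108, -150, 18, 132, 186, 78, 48, -66, -66,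
  -48, -18, 30, 0, 6, 12, 12, 0, 0, -6, -6, -6, 0, 6]

/-- The lower part of the remainder for 6. -/
def low6 : List ℤ := [-7986, 4752, 11268, 5766, 6306, -1152, -4710, -3630, -3348, -3744]

theorem red6 : redOK (target.map fun a : ℕ => (a : ℤ)) degs 6 3524 quo6 low6 (-3522) = true := by decide +kernel

theorem small6 : smallOK target 7 28 6
    (posP (low6 ++ [-3522])) (negP (low6 ++ [-3522])) = true := by decide +kernel

end CfsgLib.KnownA.MinDegLaced.E6
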