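import Cfsg.Agent.Lib.KnownA.MinDegLaced.Arith

/-!
Remainders for the values just below the bound in type E8.
-/

set_option autoImplicit false
set_option maxRecDepth 100000
set_option maxHeartbeats 4000000

namespace CfsgLib.KnownA.MinDegLaced.E8

open CfsgLib.Chevalley

/-- The bound, as a polynomial. -/
def target : List ℕ := [0, 1, 0, 0, 0, 0, 0, 1, 0, 0, 0, 1, 0, 1, 0, 0, 0, 1, 0, 1, 0, 0, 0, 1, 0, 0, 0, 0, 0, 1]

/-- The degrees. -/
def degs : List ℕ := [2, 8, 12, 14, 18, 20, 24, 30]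

/-- The quotient for 1. -/
def quo1 : List ℤ := [-4, 11, -15, -8, -7, 28, -7, 2, 3, 22, 9, -7, 10, 8, 11, -13, 3, 1, 1, -10, -7, 2, -5, -6, -9, 7,
  -5, -2, -3, 4, 4, -2, 3, 2, 8, -2, 3, 1, 4, -1, -3, 3, -1, -1, -5, 0, -1, 0, -3, -2, 1, 0, -1, 0,
  3, -1, 1, 2, 2, 0, -1, 1, 1, 1, -2, 0, 0, 0, -1, -1, 1, -2, 0, 0, 0, -1, 0, 0, 0, 1, 0, 0, 0, 1,
  0, 1, 0, 0, 0, 0, 0, 0, 0, -1, 0, 0, 0, -1, 0, 1]

/-- The lower part of the remainder for 1. -/
def low1 : List ℤ := [-3, 15, -27, 7, 1, 35, -35, 13, -11, 34, -4, -5, -23, 24, -2, -5, -25, 7, -35, 2, -31, 8, -28,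
  -5, -48, 13, -10, -9]

theorem red1 : redOK (target.map fun a : ℕ => (a : ℤ)) degs 1 36 quo1 low1 (-35) = true := by decide +kernel

theorem small1 : smallOK target 9 1 1
    (posP (low1 ++ [-35])) (negP (low1 ++ [-35])) = true := by decide +kernel

/-- The quotient for 2. -/
def quo2 : List ℤ := [92, 94, -96, -64, 8, 230, -76, 16, 12, 176, 24, -56, 52, 58, 44, -110, 12, 8, 4, -86, -28, 16,
  -20, -42, -36, 56, -20, -4, -12, 38, 16, -16, 12, 16, 32, -22, 12, 2, 16, -8, -12, 12, -4, -2,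
  -20, 0, -4, 0, -12, -4, 4, 0, -4, 0, 12, -2, 4, 4, 8, 0, -4, 2, 4, 2, -8, 0, 0, 0, -4, -2, 4, -4,
  0, 0, 0, -2, 0, 0, 0, 2, 0, 0, 0, 2, 0, 2, 0, 0, 0, 0, 0, 0, 0, -2, 0, 0, 0, -2, 0, 2]

/-- The lower part of the remainder for 2. -/
def low2 : List ℤ := [186, 96, -288, -32, 80, 452, -382, 16, -88, 436, -62, -236, -166, 144, -16, -188, -206, -44,
  -286, -160, -248, 68, -230, -176, -384, 208, -80, -60]

theorem red2 : redOK (target.map fun a : ℕ => (a : ℤ)) degs 2 287 quo2 low2 (-286) = true := by decide +kernel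

theorem small2 : smallOK target 9 3 2
    (posP (low2 ++ [-286])) (negP (low2 ++ [-286])) = true := by decide +kernel

/-- The quotient for 3. -/
def quo3 : List ℤ := [612, 321, -351, -216, 153, 780, -351, 54, 27, 594, 9, -189, 162, 192, 99, -375, 27, 27, 9, -294,
  -63, 54, -45, -138, -81, 189, -45, -6, -27, 132, 36, -54, 27, 54, 72, -78, 27, 3, 36, -27, -27,
  33, -9, -3, -45, 0, -9, 0, -27, -6, 9, 0, -9, 0, 27, -3, 9, 6, 18, 0, -9, 3, 9, 3, -18, 0, 0, 0,
  -9, -3, 9, -6, 0, 0, 0, -3, 0, 0, 0, 3, 0, 0, 0, 3, 0, 3, 0, 0, 0, 0, 0, 0, 0, -3, 0, 0, 0, -3,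
  0, 3]

/-- The lower part of the remainder for 3. -/
def low3 : List ℤ := [1839, 351, -1377, -297, 675, 2187, -1833, -99, -297, 2106, -348, -1341, -429, 504, -54, -1053,
  -699, -369, -969, -990, -837, 288, -780, -981, -1296, 1053, -270, -225]

theorem red3 : redOK (target.map fun a : ℕ => (a : ℤ)) degs 3 970 quo3 low3 (-969) = true := by decide +kernel

theorem small3 : smallOK target 9 8 3
    (posP (low3 ++ [-969])) (negP (low3 ++ [-969])) = true := by decide +kernel

/-- The quotient for 4. -/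
def quo4 : List ℤ := [2096, 764, -960, -512, 608, 1852, -1072, 128, 48, 1408, -96, -448, 400, 452, 176, -892, 48, 64,
  16, -700, -112, 128, -80, -324, -144, 448, -80, -8, -48, 316, 64, -128, 48, 128, 128, -188, 48,
  4, 64, -64, -48, 72, -16, -4, -80, 0, -16, 0, -48, -8, 16, 0, -16, 0, 48, -4, 16, 8, 32, 0, -16,
  4, 16, 4, -32, 0, 0, 0, -16, -4, 16, -8, 0, 0, 0, -4, 0, 0, 0, 4, 0, 0, 0, 4, 0, 4, 0, 0, 0, 0,
  0, 0, 0, -4, 0, 0, 0, -4, 0, 4]

/-- The lower part of the remainder for 4. -/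
def low4 : List ℤ := [8388, 960, -4608, -1088, 2944, 6800, -6140, -512, -704, 6544, -1276, -4400, -572, 1344, -128,
  -3440, -1660, -1328, -2300, -3328, -1984, 848, -1852, -3200, -3072, 3328, -640, -624]

theorem red4 : redOK (target.map fun a : ℕ => (a : ℤ)) degs 4 2301 quo4 low4 (-2300) = true := by decide +kernel

theorem small4 : smallOK target 9 18 4
    (posP (low4 ++ [-2300])) (negP (low4 ++ [-2300])) = true := by decide +kernel

/-- The quotient for 5. -/
def quo5 : List ℤ := [5300, 1495, -2175, -1000, 1625, 3620, -2575, 250, 75, 2750, -375, -875, 850, 880, 275, -1745, 75,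
  125, 25, -1370, -175, 250, -125, -630, -225, 875, -125, -10, -75, 620, 100, -250, 75, 250, 200,
  -370, 75, 5, 100, -125, -75, 135, -25, -5, -125, 0, -25, 0, -75, -10, 25, 0, -25, 0, 75, -5, 25,
  10, 50, 0, -25, 5, 25, 5, -50, 0, 0, 0, -25, -5, 25, -10, 0, 0, 0, -5, 0, 0, 0, 5, 0, 0, 0, 5, 0,
  5, 0, 0, 0, 0, 0, 0, 0, -5, 0, 0, 0, -5, 0, 5]

/-- The lower part of the remainder for 5. -/
def low5 : List ℤ := [26505, 2175, -12375, -2825, 9125, 16475, -16495, -1475, -1375, 15850, -3620, -10925, 5, 3000,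
  -250, -8525, -3245, -3425, -4495, -8350, -3875, 2000, -3620, -7925, -6000, 8125, -1250, -1425]

theorem red5 : redOK (target.map fun a : ℕ => (a : ℤ)) degs 5 4496 quo5 low5 (-4495) = true := by decide +kernel

theorem small5 : smallOK target 9 36 5
    (posP (low5 ++ [-4495])) (negP (low5 ++ [-4495])) = true := by decide +kernel

/-- The quotient for 6. -/
def quo6 : List ℤ := [11196, 2586, -4320, -1728, 3528, 6258, -5292, 432, 108, 4752, -936, -1512, 1620, 1518, 396,
  -3018, 108, 216, 36, -2370, -252, 432, -180, -1086, -324, 1512, -180, -12, -108, 1074, 144, -432,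
  108, 432, 288, -642, 108, 6, 144, -216, -108, 228, -36, -6, -180, 0, -36, 0, -108, -12, 36, 0,
  -36, 0, 108, -6, 36, 12, 72, 0, -36, 6, 36, 6, -72, 0, 0, 0, -36, -6, 36, -12, 0, 0, 0, -6, 0, 0,
  0, 6, 0, 0, 0, 6, 0, 6, 0, 0, 0, 0, 0, 0, 0, -6, 0, 0, 0, -6, 0, 6]

/-- The lower part of the remainder for 6. -/
def low6 : List ℤ := [67182, 4320, -28512, -6048, 22896, 34020, -38010, -3312, -2376, 32724, -8634, -22860, 2382, 5904,
  -432, -17820, -5610, -7308, -7770, -17568, -6696, 4068, -6258, -16560, -10368, 16848, -2160,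
  -2844]

theorem red6 : redOK (target.map fun a : ℕ => (a : ℤ)) degs 6 7771 quo6 low6 (-7770) = true := by decide +kernel

theorem small6 : smallOK target 9 61 6
    (posP (low6 ++ [-7770])) (negP (low6 ++ [-7770])) = true := by decide +kernel

/-- The quotient for 7. -/
def quo7 : List ℤ := [20972, 4109, -7791, -2744, 6713, 9940, -9751, 686, 147, 7546, -1911, -2401, 2842, 2408, 539,
  -4795, 147, 343, 49, -3766, -343, 686, -245, -1722, -441, 2401, -245, -14, -147, 1708, 196, -686,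
  147, 686, 392, -1022, 147, 7, 196, -343, -147, 357, -49, -7, -245, 0, -49, 0, -147, -14, 49, 0,
  -49, 0, 147, -7, 49, 14, 98, 0, -49, 7, 49, 7, -98, 0, 0, 0, -49, -7, 49, -14, 0, 0, 0, -7, 0, 0,
  0, 7, 0, 0, 0, 7, 0, 7, 0, 0, 0, 0, 0, 0, 0, -7, 0, 0, 0, -7, 0, 7]

/-- The lower part of the remainder for 7. -/
def low7 : List ℤ := [146811, 7791, -58653, -11417, 49735, 62867, -78197, -6419, -3773, 60466, -18172, -42581, 8239,
  10584, -686, -33173, -8911, -13769, -12341, -32830, -10633, 7448, -9940, -30821, -16464, 31213,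
  -3430, -5145]

theorem red7 : redOK (target.map fun a : ℕ => (a : ℤ)) degs 7 12342 quo7 low7 (-12341) = true := by decide +kernel

theorem small7 : smallOK target 9 97 7
    (posP (low7 ++ [-12341])) (negP (low7 ++ [-12341])) = true := by decide +kernel

/-- The quotient for 8. -/
def quo8 : List ℤ := [36032, 6136, -13056, -4096, 11648, 14840, -16576, 1024, 192, 11264, -3456, -3584, 4672, 3592,
  704, -7160, 192, 512, 64, -5624, -448, 1024, -320, -2568, -576, 3584, -320, -16, -192, 2552, 256,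
  -1024, 192, 1024, 512, -1528, 192, 8, 256, -512, -192, 528, -64, -8, -320, 0, -64, 0, -192, -16,
  64, 0, -64, 0, 192, -8, 64, 16, 128, 0, -64, 8, 64, 8, -128, 0, 0, 0, -64, -8, 64, -16, 0, 0, 0,
  -8, 0, 0, 0, 8, 0, 0, 0, 8, 0, 8, 0, 0, 0, 0, 0, 0, 0, -8, 0, 0, 0, -8, 0, 8]

/-- The lower part of the remainder for 8. -/
def low8 : List ℤ := [288264, 13056, -110592, -19712, 97280, 107072, -147448, -11264, -5632, 102976, -34808, -72896,
  19976, 17664, -1024, -56768, -13304, -23744, -18424, -56320, -15872, 12608, -14840, -52736,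
  -24576, 53248, -5120, -8640]

theorem red8 : redOK (target.map fun a : ℕ => (a : ℤ)) degs 8 18425 quo8 low8 (-18424) = true := by decide +kernel

theorem small8 : smallOK target 9 144 8
    (posP (low8 ++ [-18424])) (negP (low8 ++ [-18424])) = true := by decide +kernel

end CfsgLib.KnownA.MinDegLaced.E8
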