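import Cfsg.Agent.Lib.KnownA.MinDeg.Eigen

/-!
The character at an element of a parametrised abelian subgroup from the dimensions of its eigenspaces.
-/

set_option autoImplicit false

namespace CfsgLib.KnownA.MinDeg

open Module (finrank)

variable {G V R : Type*} [Group G] [AddCommGroup V] [Module ℂ V] [Field R] [Fintype R]
variable [FiniteDimensional ℂ V] (ρ : Representation ℂ G V) {ψ : AddChar R ℂ} (x : AddChar R G)

theorem stable_univ : Stable ρ x (⊤ : Submodule ℂ V) := fun _ _ _ => trivial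

/-- All nontrivial eigenspaces of one dimension determine the character. -/
theorem char_of_eig (hψ : ψ.IsPrimitive) {d : ℕ} (hd : ∀ l : R, l ≠ 0 → finrank ℂ (eig ρ ψ x l) = d) :
    ρ.character (x 1) = (finrank ℂ V : ℂ) - (Fintype.card R : ℂ) * d := by
  classical
  have h1 : ρ (x 1) = ∑ l, ψ l • proj ρ ψ x l := LinearMap.ext fun v => by
    simp only [LinearMap.sum_apply, LinearMap.smul_apply]
    conv_lhs => rw [← sum_proj ρ x hψ v, map_sum]
    exact Finset.sum_congr rfl fun l _ => by rw [proj_mem ρ ψ x l v 1, mul_one]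
  have h2 : ∀ l, LinearMap.trace ℂ V (proj ρ ψ x l) = (finrank ℂ (eig ρ ψ x l) : ℂ) := fun l =>
    LinearMap.IsProj.trace ⟨proj_mem ρ ψ x l, fun v hv => by rw [proj_of_mem ρ x hψ hv, if_pos rfl]⟩
  have hV := finrank_eq_sum (ρ := ρ) (x := x) hψ (stable_univ ρ x)
  rw [finrank_top, Finset.sum_congr rfl fun l _ => show finrank ℂ ↥((⊤ : Submodule ℂ V) ⊓ eig ρ ψ x l) =
    finrank ℂ (eig ρ ψ x l) by rw [top_inf_eq]] at hV
  show LinearMap.trace ℂ V (ρ (x 1)) = _
  rw [h1, map_sum, hV]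
  simp only [map_smul, h2, smul_eq_mul, Nat.cast_sum]
  rw [eq_sub_iff_add_eq]
  have h3 : ∑ l, ψ l * (d : ℂ) = 0 := by
    rw [← Finset.sum_mul]
    have := sum_mul_eq hψ (1 : R)
    simp only [one_mul, one_ne_zero, if_false] at this
    rw [this, zero_mul]
  have h4 : ∀ l : R, ψ l * (finrank ℂ (eig ρ ψ x l) : ℂ) + d =
      ψ l * (d : ℂ) + (finrank ℂ (eig ρ ψ x l) : ℂ) := fun l => by
    by_cases hl : l = 0
    · subst hl; rw [AddChar.map_zero_eq_one]; ring
    · rw [hd l hl]
  calc _ = ∑ l, (ψ l * (finrank ℂ (eig ρ ψ x l) : ℂ) + d) := by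
        rw [Finset.sum_add_distrib, Finset.sum_const, Finset.card_univ, nsmul_eq_mul]
    _ = _ := by rw [Finset.sum_congr rfl fun l _ => h4 l, Finset.sum_add_distrib, h3, zero_add]

end CfsgLib.KnownA.MinDeg
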