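import Cfsg.Agent.Lib.KnownA.MinDegLaced.Moves
import Cfsg.Agent.Lib.KnownA.MinDegLaced.Trace

/-!
A lower bound on the degree of a nontrivial representation of a simply laced Chevalley group from a certificate.
-/

set_option autoImplicit false
set_option linter.unusedSectionVars false

namespace CfsgLib.KnownA.MinDegLaced

open CfsgLib.Chevalley CfsgLib.Chevalley.Tbl CfsgLib.KnownA.MinDeg CfsgLib.KnownA.SteinbergUniv
open Module (finrank)

variable {T : Tbl} {F : Type*} [Field F] (H : Hyp T)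
variable {V : Type*} [AddCommGroup V] [Module ℂ V] (ρ : Representation ℂ ↥(T.datum.group F) V)
variable (ψ : AddChar F ℂ) [Fintype F] [FiniteDimensional ℂ V]

theorem posExcept_lt (a : ℕ) : ∀ x ∈ posExcept T a, x < T.n := fun x hx => by
  simp only [posExcept, List.mem_filter, List.mem_range'_1] at hx
  show x < 2 * T.half
  omega

theorem outside_lt (i j u : ℕ) : ∀ x ∈ outside T i j u, x < T.n := fun x hx => by
  simp only [outside, List.mem_filter, List.mem_range'_1] at hx
  show x < 2 * T.half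
  omega

/-- The dimension of the space of a node. -/
noncomputable def D (i : ℕ) : ℕ := finrank ℂ (J H ρ ψ (posExcept T (T.simple i)) (T.simple i) 1)

theorem mapsOK_lt {w S S' : List ℕ} {b b' : ℕ} (h : mapsOK T w S b S' b' = true) :
    (∀ x ∈ S, x < T.n) ∧ b < T.n := by
  simp only [mapsOK, Bool.and_eq_true, List.all_eq_true] at h
  exact ⟨fun x hx => Nat.le_of_ble_eq_true (h.1.1.1.2 x hx), Nat.le_of_ble_eq_true h.1.1.2⟩

/-- Transport, for a root moved by the torus. -/
theorem transport_scale {w S S' : List ℕ} {b b' : ℕ} (h : mapsOK T w S b S' b' = true)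
    (hs : scaleOK T b' = true) (hS' : ∀ x ∈ S', x < T.n) {c c' : F} (hc : c ≠ 0) (hc' : c' ≠ 0) :
    finrank ℂ (J H ρ ψ S b c) ≤ finrank ℂ (J H ρ ψ S' b' c') := by
  obtain ⟨e, he, hle⟩ := transport H ρ ψ h c
  have he0 : e ≠ 0 := fun h => by rw [h, zero_mul] at he; exact zero_ne_one he
  rwa [scale H ρ ψ hs hS' (mul_ne_zero he0 hc) hc'] at hle

/-- The two nodes of an edge have spaces of the same dimension. -/
theorem half_edge [DecidableEq F] {i j : ℕ} (hψ : ψ.IsPrimitive) (h : halfEdgeOK T i j = true) :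
    finrank ℂ (J H ρ ψ (outside T i j (mid T i j)) (mid T i j) 1) =
      Fintype.card F * (D H ρ ψ i +
        ∑ m ∈ Finset.univ.erase (0 : F), finrank ℂ ↥(J H ρ ψ (mid T i j :: outside T i j (mid T i j))
          (T.simple i) 1 ⊓ eig ρ ψ (gx H (T.simple j)) m)) := by
  classical
  simp only [halfEdgeOK, Bool.and_eq_true] at h
  obtain ⟨⟨⟨⟨⟨⟨⟨⟨hp, hsu⟩, hsi⟩, -⟩, hm1⟩, hm2⟩, hst⟩, hm3⟩, hm4⟩ := h
  set u := mid T i j
  set M := outside T i j u
  have hM := outside_lt (T := T) i j u
  have hu : u < T.n := (mapsOK_lt hm1).2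
  have hsiM := (mapsOK_lt hm1).1
  have huM := (mapsOK_lt hm2).1
  have hsjuM := (mapsOK_lt hm3).1
  have hi : T.simple i < T.n := (mapsOK_lt hm2).2
  rw [split_list H ρ ψ hψ one_ne_zero hu [(T.simple i, T.simple j)] hM hp]
  rw [List.length_singleton, pow_one]
  congr 1
  show finrank ℂ (J H ρ ψ (T.simple i :: M) u 1) = _
  rw [le_antisymm (transport_scale H ρ ψ hm1 hsi huM one_ne_zero one_ne_zero)
    (transport_scale H ρ ψ hm2 hsu hsiM one_ne_zero one_ne_zero)]
  simp only [stabOK, Bool.and_eq_true, List.all_eq_true] at hst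
  rw [finrank_eq_sum hψ (J_step H ρ ψ (Nat.le_of_ble_eq_true hst.1) hi huM hst.2),
    ← Finset.add_sum_erase Finset.univ _ (Finset.mem_univ (0 : F)), ← J_cons]
  congr 1
  exact le_antisymm (transport_scale H ρ ψ hm3 hsi (posExcept_lt _) one_ne_zero one_ne_zero)
    (transport_scale H ρ ψ hm4 hsi hsjuM one_ne_zero one_ne_zero)

theorem edge {i j : ℕ} (hψ : ψ.IsPrimitive) (h : edgeOK T (i, j) = true) :
    D H ρ ψ i = D H ρ ψ j := by
  classical
  simp only [edgeOK, Bool.and_eq_true, beq_iff_eq] at h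
  obtain ⟨⟨⟨⟨-, hmid⟩, hout⟩, h1⟩, h2⟩ := h
  have hmid' := Nat.eq_of_beq_eq_true hmid
  have e1 := half_edge H ρ ψ hψ h1
  have e2 := half_edge H ρ ψ hψ h2
  rw [← hmid', ← hout] at e2
  simp only [halfEdgeOK, Bool.and_eq_true] at h1 h2
  have s1 := h1.1.1.1.1.1.2
  have s2 := h2.1.1.1.1.1.2
  have huM := (mapsOK_lt h1.1.1.1.2).1
  set u := mid T i j
  set M := outside T i j u
  have hY : ∀ m : F, m ≠ 0 →
      finrank ℂ ↥(J H ρ ψ (u :: M) (T.simple i) 1 ⊓ eig ρ ψ (gx H (T.simple j)) m) =
        finrank ℂ ↥(J H ρ ψ (u :: M) (T.simple j) 1 ⊓ eig ρ ψ (gx H (T.simple i)) m) := by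
    intro m hm
    rw [scale2 H ρ ψ s2 huM (m := 1) hm one_ne_zero, scale2 H ρ ψ s1 huM (m := 1) hm one_ne_zero]
    rw [J, J, inf_right_comm]
  rw [Finset.sum_congr rfl fun m hm => hY m (Finset.ne_of_mem_erase hm)] at e1
  have := Nat.eq_of_mul_eq_mul_left (Fintype.card_pos (α := F)) (e1.symm.trans e2)
  omega

theorem D_reached (hψ : ψ.IsPrimitive) {a : ℕ} : ∀ (es : List (ℕ × ℕ)) {L R : List ℕ},
    (∀ i ∈ L, D H ρ ψ i = D H ρ ψ a) → (∀ e ∈ es, edgeOK T e = true) → reached L es = some R →
      ∀ i ∈ R, D H ρ ψ i = D H ρ ψ a := by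
  intro es
  induction es with
  | nil =>
    intro L R hL _ h
    obtain rfl : L = R := by simpa [reached] using h
    exact hL
  | cons e es ih =>
    obtain ⟨i, j⟩ := e
    intro L R hL he h
    rw [reached] at h
    cases hi : L.elem i with
    | false => rw [hi] at h; simp at h
    | true =>
      rw [hi] at h
      refine ih (L := j :: L) (fun k hk => ?_) (fun e he' => he e (List.mem_cons_of_mem _ he')) h
      rcases List.mem_cons.1 hk with rfl | hk
      · exact (edge H ρ ψ hψ (he _ List.mem_cons_self)).symm.trans (hL i (elem_mem hi))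
      · exact hL k hk

/-- A root element acting by scalars on a line. -/
theorem scal_line {L Z : List ℕ} {a p : ℕ} {c : F} {v : V} (ha : a < T.n) (hL : ∀ d ∈ L, d < T.n)
    (h : scalOK T L Z a p = true) (hv : J H ρ ψ L a c ≤ ℂ ∙ v) (hvJ : v ∈ J H ρ ψ L a c)
    (hZ : ∀ r ∈ Z, ∀ t : F, ρ (gx H r t) v = v) (s : F) : ∃ μ : ℂ, ρ (gx H p s) v = μ • v := by
  simp only [scalOK, Bool.and_eq_true, Bool.or_eq_true, List.all_eq_true] at h
  obtain ⟨hp, (h | h) | h⟩ := h
  · exact ⟨1, by rw [hZ p (elem_mem h), one_smul]⟩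
  · rw [Nat.eq_of_beq_eq_true h]
    exact ⟨_, hvJ.2 s⟩
  · have hp' : p < T.n := Nat.le_of_ble_eq_true hp
    have : ρ (gx H p s) v ∈ J H ρ ψ L a c := by
      refine ⟨fun d hd t => ?_, fun t => keep H ρ ψ ha hp' (h a List.mem_cons_self) hZ hvJ.2 s t⟩
      have := keep H ρ (1 : AddChar F ℂ) (hL d hd) hp' (h d (List.mem_cons_of_mem _ hd)) (l := 0) hZ
        (fun t => by rw [hvJ.1 d hd t]; simp) s t
      simpa using this
    obtain ⟨μ, hμ⟩ := Submodule.mem_span_singleton.1 (hv this)
    exact ⟨μ, hμ.symm⟩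

theorem kills_fix {L : List ℕ} {a : ℕ} {c : F} {v : V} (ha : a < T.n) (hL : ∀ d ∈ L, d < T.n)
    (hv : J H ρ ψ L a c ≤ ℂ ∙ v) (hvJ : v ∈ J H ρ ψ L a c) : ∀ (ks : List (ℕ × ℕ × ℕ)) {Z R : List ℕ},
    (∀ r ∈ Z, ∀ t : F, ρ (gx H r t) v = v) → killsOK T L a Z ks = some R →
      ∀ r ∈ R, ∀ t : F, ρ (gx H r t) v = v := by
  intro ks
  induction ks with
  | nil =>
    intro Z R hZ h
    obtain rfl : Z = R := by simpa [killsOK] using h
    exact hZ
  | cons k ks ih =>
    obtain ⟨x, p, p'⟩ := k
    intro Z R hZ h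
    rw [killsOK, cond_eq_ite] at h
    split_ifs at h with hc
    refine ih (Z := x :: Z) (fun r hr t => ?_) h
    rcases List.mem_cons.1 hr with rfl | hr
    swap; · exact hZ r hr t
    simp only [Bool.and_eq_true, Bool.not_eq_true'] at hc
    obtain ⟨⟨⟨hp, hp'⟩, hne⟩, hsum⟩ := hc
    have hne' : p' ≠ T.neg p := fun e => by rw [e, Nat.beq_refl] at hne; simp at hne
    have hpn : p < T.n := by
      simp only [scalOK, Bool.and_eq_true] at hp
      exact Nat.le_of_ble_eq_true hp.1
    have hpn' : p' < T.n := by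
      simp only [scalOK, Bool.and_eq_true] at hp'
      exact Nat.le_of_ble_eq_true hp'.1
    obtain ⟨hnone, -⟩ | ⟨w, N, hs, -, e, he, hrel⟩ := gx_rel H hpn hpn' hne' (F := F)
    · rw [hnone] at hsum; simp at hsum
    rw [hs] at hsum
    obtain rfl : w = r := Nat.eq_of_beq_eq_true hsum
    obtain ⟨μ, hμ⟩ := scal_line H ρ ψ ha hL hp hv hvJ hZ (e * t)
    obtain ⟨μ', hμ'⟩ := scal_line H ρ ψ ha hL hp' hv hvJ hZ 1
    have h1 := congrArg (fun g => ρ g v) (hrel (e * t) 1)
    simp only [map_mul, Module.End.mul_apply, mul_one, ← mul_assoc, he, one_mul] at h1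
    rw [hμ, map_smul, hμ', smul_comm] at h1
    have h2 : ρ (gx H p (e * t)) (ρ (gx H p' 1) v) = μ' • μ • v := by rw [hμ', map_smul, hμ]
    exact (map_injective _ (map_injective _ (h2.trans h1))).symm

theorem steps_bound (hψ : ψ.IsPrimitive) {d : ℕ} : ∀ (L : List Step) {S : List ℕ},
    stepsOK T S L = true → (∀ x ∈ S, x < T.n) → (∀ st ∈ L, d ≤ D H ρ ψ st.node) →
      (Fintype.card F - 1) * d * (L.map fun st => Fintype.card F ^ st.pairs.length).sum ≤
        finrank ℂ (Z0 H ρ S) := by
  intro L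
  induction L with
  | nil => intro S _ _ _; simp
  | cons st L ih =>
    intro S h hS hd
    simp only [stepsOK, stepOK, fixOK, Bool.and_eq_true, List.all_eq_true] at h
    obtain ⟨⟨⟨⟨⟨hx, hfix⟩, hsc⟩, -⟩, hp, hm⟩, hrest⟩ : ((((((Nat.blt st.root T.n = true) ∧
        ∀ x ∈ S, sumIn T S x st.root = true) ∧ scaleOK T st.root = true) ∧
        Nat.blt st.node T.rank = true)) ∧ pairsOK T S st.root st.pairs = true ∧
        mapsOK T st.word (posExcept T (T.simple st.node)) (T.simple st.node) (after S st.pairs) st.root = true) ∧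
        stepsOK T (st.root :: S) L = true := by tauto
    have hx' : st.root < T.n := Nat.le_of_ble_eq_true hx
    have h1 := filter_step H ρ ψ hψ hx' hS hfix (Y := Fintype.card F ^ st.pairs.length * d) fun c hc => by
      rw [split_list H ρ ψ hψ hc hx' st.pairs hS hp]
      exact Nat.mul_le_mul_left _ ((hd st List.mem_cons_self).trans
        (transport_scale H ρ ψ hm hsc (after_lt hS _ hp) one_ne_zero hc))
    have h2 := ih hrest (by
      intro x hx''
      rcases List.mem_cons.1 hx'' with rfl | hx''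
      · exact hx'
      · exact hS x hx'') fun st' hst => hd st' (List.mem_cons_of_mem _ hst)
    rw [List.map_cons, List.sum_cons, mul_add,
      show (Fintype.card F - 1) * d * Fintype.card F ^ st.pairs.length =
        (Fintype.card F - 1) * (Fintype.card F ^ st.pairs.length * d) by ring]
    omega

theorem Z0_nil : Z0 H ρ [] = ⊤ := Submodule.ext fun v => ⟨fun _ => trivial, fun _ r hr => by simp at hr⟩

include H in
/-- The bound from a certificate. -/
theorem bound [hirr : ρ.IsIrreducible] [IsSimpleGroup ↥(T.datum.group F)] {C : Cert}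
    (hhead : headOK T C = true) (hsteps : stepsOK T [C.rho] C.steps = true) (hk : 2 ≤ finrank ℂ V) :
    ((Fintype.card F - 1) * (Fintype.card F ^ (C.top.length + 1) +
        (C.steps.map fun st => Fintype.card F ^ st.pairs.length).sum) ≤ finrank ℂ V ∧
      ρ.character (gx H C.rho 1) = (finrank ℂ V : ℂ) -
        (Fintype.card F : ℂ) * ((Fintype.card F ^ (C.top.length + 1) : ℕ) : ℂ)) ∨
      2 * (Fintype.card F - 1) * (Fintype.card F ^ (C.top.length + 1) + Fintype.card F ^ C.top.length)
        ≤ finrank ℂ V := by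
  classical
  obtain ⟨ψ, hψ⟩ : ∃ ψ : AddChar F ℂ, ψ.IsPrimitive := by
    obtain ⟨ψ, hψ⟩ := AddChar.exists_apply_ne_zero.2 (one_ne_zero (α := F))
    exact ⟨ψ, AddChar.IsPrimitive.of_ne_one fun e => hψ (by simp [e])⟩
  simp only [headOK, Bool.and_eq_true, List.all_eq_true] at hhead
  obtain ⟨⟨⟨⟨⟨⟨⟨⟨⟨⟨⟨⟨hrho, -⟩, hsr⟩, hsa⟩, hp⟩, hm0⟩, hs1⟩, hw⟩, hw'⟩, hkill⟩, hedges⟩, hreach⟩, hhd⟩ := hhead
  have hr : C.rho < T.n := Nat.le_of_ble_eq_true hrho
  have hnil : ∀ x ∈ ([] : List ℕ), x < T.n := fun x hx => by simp at hx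
  have hrho1 : ∀ x ∈ [C.rho], x < T.n := fun x hx => by rw [List.mem_singleton.1 hx]; exact hr
  set Sf := after [] (C.first :: C.top) with hSf
  set a := T.simple C.a0
  have hSfn : ∀ x ∈ Sf, x < T.n := after_lt hnil _ hp
  set E := finrank ℂ (J H ρ ψ Sf C.rho 1) with hE
  have htop : ∀ c : F, c ≠ 0 →
      finrank ℂ (J H ρ ψ [] C.rho c) = Fintype.card F ^ (C.top.length + 1) * E := fun c hc => by
    rw [split_list H ρ ψ hψ hc hr _ hnil hp, List.length_cons,
      scale H ρ ψ hsr hSfn hc one_ne_zero (c' := 1)]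
  have hsecond : ∀ c : F, c ≠ 0 →
      Fintype.card F ^ C.top.length * E ≤ finrank ℂ (J H ρ ψ [C.rho] C.first.1 c) := fun c hc => by
    refine le_trans (le_of_eq ?_) (transport_scale H ρ ψ hm0 hs1 hrho1 one_ne_zero hc)
    have hp' : pairsOK T [C.first.1] C.rho C.top = true := by
      rw [show C.first = (C.first.1, C.first.2) from rfl] at hp
      simp only [pairsOK, Bool.and_eq_true] at hp
      exact hp.2
    rw [split_list H ρ ψ hψ one_ne_zero hr _ (mapsOK_lt hm0).1 hp']
    rfl
  have hE1 : 1 ≤ E := by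
    refine Nat.pos_of_ne_zero fun h0 => ?_
    have htriv : (⊤ : Submodule ℂ V) ≤ eig ρ ψ (gx H C.rho) 0 :=
      le_eig_zero hψ (fun t v _ => trivial) fun c hc => by
        refine Submodule.finrank_eq_zero.1 ?_
        have := htop c hc
        rwa [h0, mul_zero, J, Z0_nil] at this
    have hne : gx H C.rho (1 : F) ≠ 1 := fun e => by
      have e' : T.xU F C.rho (1 : F) = 1 := (gx_val H hr (1 : F)).symm.trans (congrArg Subtype.val e)
      rw [← xU_zero H.valid hr] at e'
      exact one_ne_zero (xU_inj H.valid hr e')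
    rcases (MonoidHom.normal_ker ρ).eq_bot_or_eq_top with h | h
    · refine hne (Subgroup.mem_bot.1 (h ▸ MonoidHom.mem_ker.2 (LinearMap.ext fun v => ?_)))
      exact mem_eig_zero _ _ _ |>.1 (htriv (Submodule.mem_top (x := v))) 1
    · have : (⊤ : Submodule ℂ V) = ⊥ := eq_bot_of_fixed (ρ := ρ) hk fun g v _ => by
        rw [MonoidHom.mem_ker.1 (h ▸ Subgroup.mem_top g), Module.End.one_apply]
      rw [← finrank_top ℂ V, this, finrank_bot] at hk
      omega
  have h1 := filter_step H ρ ψ hψ (S := []) hr hnil (fun d hd => by simp at hd) fun c hc => (htop c hc).ge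
  rw [Z0_nil, finrank_top] at h1
  cases hst : C.steps with
  | nil => rw [hst] at hhd; simp at hhd
  | cons st rest =>
    rw [hst] at hhd
    have hroot : st.root = C.first.1 := Nat.eq_of_beq_eq_true hhd
    rcases Nat.lt_or_ge E 2 with hE2 | hE2
    · left
      have hEone : E = 1 := by omega
      rw [hEone, mul_one] at h1
      refine ⟨?_, char_of_eig ρ (gx H C.rho) hψ fun c hc => ?_⟩
      swap
      · have := htop c hc
        rwa [hEone, mul_one, J, Z0_nil, top_inf_eq] at this
      have ha : a < T.n := (mapsOK_lt hw').2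
      have hline := (mapsOK_lt hw').1
      have hJ : finrank ℂ (J H ρ ψ C.line a 1) = 1 := le_antisymm
        ((transport_scale H ρ ψ hw' hsr hSfn one_ne_zero one_ne_zero).trans hEone.le)
        (hEone.ge.trans (transport_scale H ρ ψ hw hsa hline one_ne_zero one_ne_zero))
      have hJ0 : J H ρ ψ C.line a 1 ≠ ⊥ := fun e => by rw [e, finrank_bot] at hJ; omega
      obtain ⟨v, hv, hv0⟩ := Submodule.exists_mem_ne_zero_of_ne_bot hJ0
      have hspan : J H ρ ψ C.line a 1 ≤ ℂ ∙ v := le_of_eq (Submodule.eq_of_le_of_finrank_le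
        ((Submodule.span_singleton_le_iff_mem _ _).2 hv) (by rw [finrank_span_singleton hv0, hJ])).symm
      cases hZ : killsOK T C.line a C.line C.kills with
      | none => rw [hZ] at hkill; simp at hkill
      | some Z =>
        rw [hZ] at hkill
        simp only [List.all_eq_true] at hkill
        have hfix := kills_fix H ρ ψ ha hline hspan hv C.kills (fun r hr' => hv.1 r hr') hZ
        have hD : 1 ≤ D H ρ ψ C.a0 := by
          refine Submodule.one_le_finrank_iff.2 fun e => hv0 ?_
          rw [← Submodule.mem_bot ℂ, ← e]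
          exact ⟨fun r hr' => hfix r (elem_mem (hkill r hr')), hv.2⟩
        cases hR : reached [C.a0] C.edges with
        | none => rw [hR] at hreach; simp at hreach
        | some R =>
          rw [hR] at hreach
          simp only [List.all_eq_true] at hreach
          have hDall := D_reached H ρ ψ hψ (a := C.a0) C.edges
            (fun i hi => by rw [List.mem_singleton.1 hi]) hedges hR
          have h2 := steps_bound H ρ ψ hψ (d := 1) C.steps hsteps hrho1
            fun st' hst' => (hDall _ (elem_mem (hreach st' hst'))).symm ▸ hD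
          rw [mul_one, hst] at h2
          rw [mul_add]
          omega
    · right
      rw [hst] at hsteps
      simp only [stepsOK, stepOK, fixOK, Bool.and_eq_true, List.all_eq_true] at hsteps
      have h2 := filter_step H ρ ψ hψ (S := [C.rho]) (Nat.le_of_ble_eq_true hsteps.1.1.1.1.1.1) hrho1
        hsteps.1.1.1.1.1.2 (Y := Fintype.card F ^ C.top.length * E) fun c hc => hroot ▸ hsecond c hc
      have e : 2 * (Fintype.card F - 1) * (Fintype.card F ^ (C.top.length + 1) + Fintype.card F ^ C.top.length) ≤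
          (Fintype.card F - 1) * (Fintype.card F ^ (C.top.length + 1) * E) +
            (Fintype.card F - 1) * (Fintype.card F ^ C.top.length * E) := by
        rw [← mul_add, ← add_mul, mul_comm 2, mul_assoc, mul_comm 2]
        exact Nat.mul_le_mul_left _ (Nat.mul_le_mul_left _ hE2)
      omega

end CfsgLib.KnownA.MinDegLaced
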