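import Cfsg.Agent.Lib.KnownA.SteinbergLaced

/-!
Certificates for the filtration of a representation of a simply laced Chevalley group by lists of roots.
-/

set_option autoImplicit false

namespace CfsgLib.KnownA.MinDegLaced

open CfsgLib.Chevalley CfsgLib.Chevalley.Tbl

variable (T : Tbl)

/-- `d + x` is no root or lies in the list, and is not zero. -/
def sumIn (S : List ℕ) (d x : ℕ) : Bool :=
  !(Nat.beq d (T.neg x)) &&
    match T.sum? x d with
    | none => true
    | some (u, _) => S.elem u

/-- The root group of `x` preserves the space of a list and one further root. -/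
def stabOK (S : List ℕ) (b x : ℕ) : Bool :=
  Nat.blt x T.n && (b :: S).all fun d => sumIn T S d x

/-- The root group of `x` preserves the fixed space of a list. -/
def fixOK (S : List ℕ) (x : ℕ) : Bool :=
  Nat.blt x T.n && S.all fun d => sumIn T S d x

/-- The root group of `g` moves the coordinate at `d` by the one at `b`, and nothing else. -/
def shiftOK (S : List ℕ) (b d g : ℕ) : Bool :=
  Nat.blt g T.n && !(Nat.beq d (T.neg g)) &&
    (match T.sum? g d with
      | none => false
      | some (u, _) => Nat.beq u b) &&
    (b :: S).all fun y => sumIn T S y g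

/-- A list of pairs splitting off coordinates. -/
def pairsOK : List ℕ → ℕ → List (ℕ × ℕ) → Bool
  | _, _, [] => true
  | S, b, (d, g) :: rest => stabOK T S b d && shiftOK T S b d g && pairsOK (d :: S) b rest

/-- The list after splitting. -/
def after : List ℕ → List (ℕ × ℕ) → List ℕ
  | S, [] => S
  | S, (d, _) :: rest => after (d :: S) rest

/-- The value at a number, reducing the number first. -/
def force {α : Type} : ℕ → (ℕ → α) → α
  | 0, f => f 0
  | n + 1, f => f (n + 1)

theorem force_eq {α : Type} (n : ℕ) (f : ℕ → α) : force n f = f n := by cases n <;> rfl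

/-- The image of a root under a word of fundamental reflections. -/
def imgW : List ℕ → ℕ → ℕ
  | [], x => x
  | i :: w, x => force (imgW w x) (T.refl i)

/-- A word carries a list and one root to another. -/
def mapsOK (w : List ℕ) (S : List ℕ) (b : ℕ) (S' : List ℕ) (b' : ℕ) : Bool :=
  w.all (fun i => Nat.blt i T.rank) && S.all (fun x => Nat.blt x T.n) && Nat.blt b T.n &&
    Nat.beq (imgW T w b) b' &&
    S'.all fun x => force (imgW T w.reverse x) fun y => S.elem y && Nat.beq (imgW T w y) x

/-- A torus element moves the coordinate at `b`. -/
def scaleOK (b : ℕ) : Bool :=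
  Nat.blt b T.n && (List.range T.n).any fun r => Nat.beq (T.pair r b).natAbs 1

/-- A torus element moves the coordinate at `b` and fixes the one at `a`. -/
def scaleOK2 (b a : ℕ) : Bool :=
  Nat.blt b T.n && Nat.blt a T.n &&
    (List.range T.n).any fun r => Nat.beq (T.pair r b).natAbs 1 && decide (T.pair r a = 0)

/-- One further root with its pairs, node and word. -/
structure Step where
  root : ℕ
  pairs : List (ℕ × ℕ)
  node : ℕ
  word : List ℕ

/-- The certificate. -/
structure Cert where
  rho : ℕ
  first : ℕ × ℕ
  top : List (ℕ × ℕ)
  a0 : ℕ
  word : List ℕ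
  line : List ℕ
  kills : List (ℕ × ℕ × ℕ)
  steps : List Step
  edges : List (ℕ × ℕ)

/-- The positive roots other than one. -/
def posExcept (a : ℕ) : List ℕ := (List.range' T.half T.half).filter fun x => !(Nat.beq x a)

/-- Check of one step. -/
def stepOK (S : List ℕ) (st : Step) : Bool :=
  fixOK T S st.root && scaleOK T st.root && Nat.blt st.node T.rank &&
    pairsOK T S st.root st.pairs &&
    mapsOK T st.word (posExcept T (T.simple st.node)) (T.simple st.node) (after S st.pairs) st.root

/-- Check of all steps, in order. -/
def stepsOK : List ℕ → List Step → Bool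
  | _, [] => true
  | S, st :: rest => stepOK T S st && stepsOK (st.root :: S) rest

/-- The positive roots outside the plane of two nodes. -/
def outside (i j u : ℕ) : List ℕ :=
  (List.range' T.half T.half).filter fun x =>
    !(Nat.beq x (T.simple i)) && !(Nat.beq x (T.simple j)) && !(Nat.beq x u)

/-- The middle root of two nodes. -/
def mid (i j : ℕ) : ℕ := ((T.sum? (T.simple i) (T.simple j)).getD (0, 0)).1

/-- One half of the check of an edge. -/
def halfEdgeOK (i j : ℕ) : Bool :=
  let u := mid T i j
  let M := outside T i j u
  let si := T.simple i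
  let sj := T.simple j
  pairsOK T M u [(si, sj)] && scaleOK T u && scaleOK T si && scaleOK2 T si sj &&
    mapsOK T [j] (si :: M) u (u :: M) si && mapsOK T [j] (u :: M) si (si :: M) u &&
    stabOK T (u :: M) si sj &&
    mapsOK T [] (sj :: u :: M) si (posExcept T si) si && mapsOK T [] (posExcept T si) si (sj :: u :: M) si

/-- Check of an edge. -/
def edgeOK (e : ℕ × ℕ) : Bool :=
  Nat.blt e.1 T.rank && Nat.blt e.2 T.rank && Nat.beq (mid T e.1 e.2) (mid T e.2 e.1) &&
    (outside T e.1 e.2 (mid T e.1 e.2) == outside T e.2 e.1 (mid T e.1 e.2)) &&
    halfEdgeOK T e.1 e.2 && halfEdgeOK T e.2 e.1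

/-- The nodes reached from the first one. -/
def reached : List ℕ → List (ℕ × ℕ) → Option (List ℕ)
  | L, [] => some L
  | L, (i, j) :: rest => bif L.elem i then reached (j :: L) rest else none

/-- The element acts as a scalar on the line. -/
def scalOK (L Z : List ℕ) (a p : ℕ) : Bool :=
  Nat.blt p T.n && (Z.elem p || Nat.beq p a ||
    (a :: L).all fun d => sumIn T Z d p)

/-- The roots shown to fix the line. -/
def killsOK (L : List ℕ) (a : ℕ) : List ℕ → List (ℕ × ℕ × ℕ) → Option (List ℕ)
  | Z, [] => some Z
  | Z, (x, p, p') :: rest =>
    bif scalOK T L Z a p && scalOK T L Z a p' && !(Nat.beq p' (T.neg p)) &&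
      (match T.sum? p p' with
        | none => false
        | some (u, _) => Nat.beq u x)
    then killsOK L a (x :: Z) rest else none

/-- All checks on a certificate, apart from the steps. -/
def headOK (C : Cert) : Bool :=
  let a := T.simple C.a0
  let Sf := after [] (C.first :: C.top)
  Nat.blt C.rho T.n && Nat.blt C.a0 T.rank && scaleOK T C.rho && scaleOK T a &&
    pairsOK T [] C.rho (C.first :: C.top) &&
    mapsOK T [C.a0] [C.first.1] C.rho [C.rho] C.first.1 && scaleOK T C.first.1 &&
    mapsOK T C.word Sf C.rho C.line a && mapsOK T C.word.reverse C.line a Sf C.rho &&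
    (match killsOK T C.line a C.line C.kills with
      | none => false
      | some Z => (posExcept T a).all fun x => Z.elem x) &&
    C.edges.all (edgeOK T) &&
    (match reached [C.a0] C.edges with
      | none => false
      | some L => C.steps.all fun st => L.elem st.node) &&
    (match C.steps with
      | [] => false
      | st :: _ => Nat.beq st.root C.first.1)

end CfsgLib.KnownA.MinDegLaced
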