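import Cfsg.Agent.Lib.KnownA.MinDegLaced.Check
import Cfsg.Agent.Lib.Chevalley.Data.E6

/-!
The filtration certificate for E6.
-/

set_option autoImplicit false
set_option maxRecDepth 20000

namespace CfsgLib.KnownA.MinDegLaced.E6

open CfsgLib.Chevalley

/-- The steps after the highest root. -/
def steps : List Step := [
  ⟨70, [(69, 39), (68, 40), (66, 43), (67, 41), (65, 44), (55, 58), (64, 45), (54, 59), (53, 60)], 1, [3, 4, 5, 2, 3, 4, 0, 2, 3]⟩,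
  ⟨69, [(68, 37), (66, 42), (67, 38), (55, 57), (63, 44), (62, 45), (52, 59), (51, 60)], 1, [4, 5, 2, 3, 4, 0, 2, 3]⟩,
  ⟨66, [(65, 37), (55, 56), (64, 38), (63, 40), (62, 41), (49, 59), (48, 60)], 1, [4, 5, 3, 4, 0, 2, 3]⟩,
  ⟨68, [(67, 36), (65, 42), (63, 43), (54, 57), (52, 58), (61, 45), (50, 60)], 1, [5, 2, 3, 4, 0, 2, 3]⟩,
  ⟨55, [(54, 37), (53, 38), (52, 40), (51, 41), (49, 44), (48, 45)], 1, [4, 5, 3, 4, 2, 3]⟩,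
  ⟨65, [(64, 36), (63, 39), (54, 56), (61, 41), (49, 58), (47, 60)], 1, [5, 3, 4, 0, 2, 3]⟩,
  ⟨67, [(64, 42), (62, 43), (53, 57), (61, 44), (51, 58), (50, 59)], 1, [2, 3, 4, 0, 2, 3]⟩,
  ⟨54, [(53, 36), (52, 39), (49, 43), (50, 41), (47, 45)], 1, [5, 3, 4, 2, 3]⟩,
  ⟨63, [(62, 36), (52, 56), (61, 38), (49, 57), (46, 60)], 1, [5, 4, 0, 2, 3]⟩,
  ⟨64, [(62, 39), (53, 56), (61, 40), (48, 58), (47, 59)], 1, [3, 4, 0, 2, 3]⟩,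
  ⟨52, [(51, 36), (49, 42), (50, 38), (46, 45)], 1, [5, 4, 2, 3]⟩,
  ⟨53, [(51, 39), (50, 40), (48, 43), (47, 44)], 1, [3, 4, 2, 3]⟩,
  ⟨62, [(61, 37), (51, 56), (48, 57), (46, 59)], 1, [4, 0, 2, 3]⟩,
  ⟨49, [(48, 36), (47, 38), (46, 41)], 1, [5, 4, 3]⟩,
  ⟨51, [(50, 37), (48, 42), (46, 44)], 1, [4, 2, 3]⟩,
  ⟨61, [(50, 56), (47, 57), (46, 58)], 1, [0, 2, 3]⟩,
  ⟨48, [(47, 37), (46, 40)], 1, [4, 3]⟩,
  ⟨50, [(47, 42), (46, 43)], 1, [2, 3]⟩,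
  ⟨47, [(46, 39)], 1, [3]⟩,
  ⟨46, [], 1, []⟩,
  ⟨60, [(59, 36), (58, 38), (57, 41), (56, 45)], 0, [5, 4, 3, 2]⟩,
  ⟨59, [(58, 37), (57, 40), (56, 44)], 0, [4, 3, 2]⟩,
  ⟨58, [(57, 39), (56, 43)], 0, [3, 2]⟩,
  ⟨57, [(56, 42)], 0, [2]⟩,
  ⟨56, [], 0, []⟩,
  ⟨45, [(44, 36), (43, 38), (42, 41)], 2, [5, 4, 3]⟩,
  ⟨44, [(43, 37), (42, 40)], 2, [4, 3]⟩,
  ⟨43, [(42, 39)], 2, [3]⟩,
  ⟨42, [], 2, []⟩,
  ⟨41, [(40, 36), (39, 38)], 3, [5, 4]⟩,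
  ⟨40, [(39, 37)], 3, [4]⟩,
  ⟨39, [], 3, []⟩,
  ⟨38, [(37, 36)], 4, [5]⟩,
  ⟨37, [], 4, []⟩,
  ⟨36, [], 5, []⟩]

/-- The certificate. -/
def cert : Cert where
  rho := 71
  first := (70, 46)
  top := [(69, 47), (66, 50), (68, 48), (55, 61), (65, 51), (67, 49), (54, 62), (64, 52), (53, 63)]
  a0 := 1
  word := [3, 4, 5, 2, 3, 4, 0, 2, 3, 1]
  line := [47, 48, 49, 50, 51, 52, 61, 62, 63, 71]
  kills := [(14, 15, 29), (15, 14, 42), (29, 14, 56), (33, 34, 35), (34, 33, 36), (35, 33, 37), (36, 34, 38),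
    (37, 35, 38), (38, 36, 37), (42, 15, 57), (53, 14, 67), (54, 14, 68), (55, 14, 69), (56, 29, 57),
    (57, 42, 56), (64, 29, 67), (65, 29, 68), (66, 29, 69), (67, 33, 69), (68, 34, 69), (69, 37, 68),
    (70, 39, 69), (39, 14, 58), (40, 14, 59), (41, 14, 60), (43, 15, 58), (44, 15, 59), (45, 15, 60),
    (58, 33, 60), (59, 35, 60), (60, 36, 59)]
  steps := steps
  edges := [(1, 3), (3, 2), (3, 4), (2, 0), (4, 5)]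

theorem headOK_cert : headOK Data.E6.tbl cert = true := by decide +kernel

theorem stepsOK_cert : stepsOK Data.E6.tbl [cert.rho] cert.steps = true := by decide +kernel

end CfsgLib.KnownA.MinDegLaced.E6
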