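import Cfsg.Agent.Lib.KnownA.MinDegLaced.Moves
import Cfsg.Agent.Lib.Chevalley.Bruhat
import Cfsg.Agent.Lib.Char.Integral

/-!
A lower bound on centralizers of root elements from a natural module of an embedded linear group.
-/

set_option autoImplicit false
set_option linter.unusedSectionVars false

namespace CfsgLib.KnownA.MinDegLaced

open CfsgLib.Chevalley CfsgLib.Chevalley.Tbl

/-- `m` commuting positive root groups moved into one another by further root groups, all commuting with
the root group of `z`. -/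
def ActOK (T : Tbl) (m z : ℕ) (d : Fin m → ℕ) (p : Fin m → Fin m → ℕ) : Prop :=
  z < T.n ∧ (∀ i, d i < T.n ∧ T.half ≤ d i ∧ d i ≠ T.neg z ∧ T.sum? z (d i) = none) ∧
  (∀ i k, i ≠ k → d i ≠ d k ∧ d k ≠ T.neg (d i) ∧ T.sum? (d i) (d k) = none) ∧
  ∀ i k, i ≠ k → p i k < T.n ∧ p i k ≠ T.neg z ∧ T.sum? z (p i k) = none ∧
    ∀ l, d l ≠ T.neg (p i k) ∧ (T.sum? (p i k) (d l)).map Prod.fst = if l = i then some (d k) else none

variable {T : Tbl} {F : Type*} [Field F] (H : Hyp T) {m z : ℕ} {d : Fin m → ℕ} {p : Fin m → Fin m → ℕ}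

theorem gx_commute {r s : ℕ} (hr : r < T.n) (hs : s < T.n) (hne : s ≠ T.neg r) (h : T.sum? r s = none)
    (a b : F) : Commute (gx H r a) (gx H s b) := by
  obtain ⟨-, hc⟩ | ⟨w, N, hw, -⟩ := gx_rel H hr hs hne (F := F)
  · exact (hc a b).symm
  · rw [h] at hw; simp at hw

variable (h : ActOK T m z d p)
include h

/-- The product of the root elements. -/
noncomputable def prodW : (Fin m → Multiplicative F) →* ↥(T.datum.group F) :=
  MonoidHom.noncommPiCoprod (fun i => (gx H (d i)).toMonoidHom) fun i k hik a b => by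
    exact gx_commute H (h.2.1 i).1 (h.2.1 k).1 (h.2.2.1 i k hik).2.1 (h.2.2.1 i k hik).2.2 a.toAdd b.toAdd

theorem prodW_single (i : Fin m) (t : F) :
    prodW H h (Pi.mulSingle i (Multiplicative.ofAdd t)) = gx H (d i) t :=
  MonoidHom.noncommPiCoprod_mulSingle _ _ _

/-- Adding a multiple of one coordinate to another. -/
def tshift (i k : Fin m) (a : F) : (Fin m → Multiplicative F) →* (Fin m → Multiplicative F) where
  toFun t := t * Pi.mulSingle k (Multiplicative.ofAdd (a * (t i).toAdd))
  map_one' := by simp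
  map_mul' s t := by
    rw [Pi.mul_apply, toAdd_mul, mul_add, ofAdd_add, Pi.mulSingle_mul, mul_mul_mul_comm]

theorem conj_prodW {i k : Fin m} (hik : i ≠ k) : ∃ e : F, e * e = 1 ∧ ∀ (a : F) (t : Fin m → Multiplicative F),
    gx H (p i k) (-a) * prodW H h t * gx H (p i k) a = prodW H h (tshift i k (e * a) t) := by
  obtain ⟨hp, -, -, hl⟩ := h.2.2.2 i k hik
  have hrel : ∀ l, ∀ a b : F, l ≠ i → gx H (d l) b * gx H (p i k) a = gx H (p i k) a * gx H (d l) b := by
    intro l a b hne
    have e := (hl l).2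
    rw [if_neg hne, Option.map_eq_none_iff] at e
    exact (gx_commute H hp (h.2.1 l).1 (hl l).1 e a b).symm
  obtain ⟨hnone, -⟩ | ⟨w, N, hs, -, e, he, hc⟩ := gx_rel H hp (h.2.1 i).1 (hl i).1 (F := F)
  · have e := (hl i).2
    rw [hnone, if_pos rfl] at e
    simp at e
  have hw : w = d k := by
    have e := (hl i).2
    rw [hs, if_pos rfl] at e
    simpa using e
  subst hw
  refine ⟨e, he, fun a t => ?_⟩
  have key : (MulAut.conj (gx H (p i k) (-a))).toMonoidHom.comp (prodW H h) =
      (prodW H h).comp (tshift i k (e * a)) := by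
    refine MonoidHom.pi_ext fun l y => ?_
    obtain ⟨b, rfl⟩ : ∃ b, Multiplicative.ofAdd b = y := ⟨y.toAdd, rfl⟩
    have hts : tshift i k (e * a) (Pi.mulSingle l (Multiplicative.ofAdd b)) =
        Pi.mulSingle l (Multiplicative.ofAdd b) *
          Pi.mulSingle k (Multiplicative.ofAdd (e * a *
            (Pi.mulSingle (M := fun _ => Multiplicative F) l (Multiplicative.ofAdd b) i).toAdd)) := rfl
    simp only [MonoidHom.comp_apply, MulEquiv.coe_toMonoidHom, MulAut.conj_apply]
    rw [hts, map_mul, prodW_single, prodW_single, gx_neg, inv_inv]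
    rcases eq_or_ne l i with rfl | hne
    · rw [Pi.mulSingle_eq_same, toAdd_ofAdd, mul_assoc, hc, inv_mul_cancel_left]
      congr 2
      ring
    · rw [Pi.mulSingle_eq_of_ne hne.symm, toAdd_one, mul_zero, mul_assoc, hrel l a b hne,
        inv_mul_cancel_left, AddChar.map_zero_eq_one, mul_one]
  have := DFunLike.congr_fun key t
  simp only [MonoidHom.comp_apply, MulEquiv.coe_toMonoidHom, MulAut.conj_apply] at this
  rwa [gx_neg, inv_inv, ← gx_neg H (r := p i k)] at this

/-- The acting group. -/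
noncomputable def actGroup : Subgroup ↥(T.datum.group F) :=
  Subgroup.closure ({g | ∃ i k : Fin m, i ≠ k ∧ ∃ a : F, g = gx H (p i k) a} ∪ {g | ∃ i, ∃ a : F, g = gx H (d i) a})

/-- The two elements are conjugate under the acting group. -/
def Rel (t t' : Fin m → Multiplicative F) : Prop :=
  ∃ g ∈ actGroup H (d := d) (p := p) (F := F), g * prodW H h t * g⁻¹ = prodW H h t'

theorem Rel.trans' {t t' t'' : Fin m → Multiplicative F} (h1 : Rel H h t t') (h2 : Rel H h t' t'') :
    Rel H h t t'' := by
  obtain ⟨g, hg, e⟩ := h1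
  obtain ⟨g', hg', e'⟩ := h2
  exact ⟨g' * g, mul_mem hg' hg, by rw [← e', ← e]; group⟩

theorem rel_set {i k : Fin m} (hik : i ≠ k) {t : Fin m → Multiplicative F} (ht : t i ≠ 1) (v : F) :
    Rel H h t (Function.update t k (Multiplicative.ofAdd v)) := by
  obtain ⟨e, he, hc⟩ := conj_prodW H h hik (F := F)
  have hti : (t i).toAdd ≠ 0 := fun hz => ht hz
  set a := e * ((v - (t k).toAdd) / (t i).toAdd) with ha
  refine ⟨gx H (p i k) (-a), Subgroup.subset_closure (Or.inl ⟨i, k, hik, _, rfl⟩), ?_⟩
  rw [gx_neg, inv_inv, ← gx_neg H (r := p i k), hc]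
  congr 1
  funext l
  show t l * Pi.mulSingle (M := fun _ => Multiplicative F) k
    (Multiplicative.ofAdd (e * a * (t i).toAdd)) l = _
  rcases eq_or_ne l k with rfl | hne
  · rw [Pi.mulSingle_eq_same, Function.update_self, ha, ← mul_assoc, he, one_mul, div_mul_cancel₀ _ hti,
      ← ofAdd_toAdd (t l), ← ofAdd_add, toAdd_ofAdd, add_sub_cancel]
  · rw [Pi.mulSingle_eq_of_ne hne, Function.update_of_ne hne, mul_one]

theorem rel_base (i0 i1 : Fin m) (h01 : i0 ≠ i1) {t : Fin m → Multiplicative F} (ht : t ≠ 1) :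
    Rel H h t (Pi.mulSingle i0 (Multiplicative.ofAdd 1)) := by
  classical
  -- Make the coordinate at `i0` one.
  have hone : Multiplicative.ofAdd (1 : F) ≠ 1 := fun e => one_ne_zero (α := F) e
  obtain ⟨t', ht', h0⟩ : ∃ t', Rel H h t t' ∧ t' i0 = Multiplicative.ofAdd 1 := by
    by_cases hex : ∃ i, i ≠ i0 ∧ t i ≠ 1
    · obtain ⟨i, hi, hti⟩ := hex
      exact ⟨_, rel_set H h hi hti 1, Function.update_self ..⟩
    · push Not at hex
      have hti : t i0 ≠ 1 := fun e => ht (funext fun i => by
        rcases eq_or_ne i i0 with rfl | hi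
        · exact e
        · exact hex i hi)
      refine ⟨_, (rel_set H h h01 hti 1).trans' H h (rel_set H h h01.symm ?_ 1), Function.update_self ..⟩
      rw [Function.update_self]; exact hone
  refine ht'.trans' H h ?_
  -- Clear the others, one at a time.
  suffices hall : ∀ s : Finset (Fin m), i0 ∉ s →
      Rel H h t' (fun l => if l ∈ s then 1 else t' l) by
    refine (?_ : (fun l => if l ∈ Finset.univ.erase i0 then 1 else t' l) =
      Pi.mulSingle i0 (Multiplicative.ofAdd (1 : F))) ▸ hall _ (Finset.notMem_erase _ _)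
    funext l
    rcases eq_or_ne l i0 with rfl | hl
    · simp [h0]
    · simp [hl]
  intro s
  induction s using Finset.induction with
  | empty => exact fun _ => ⟨1, one_mem _, by simp⟩
  | @insert x s hx ih =>
    intro h0s
    simp only [Finset.mem_insert, not_or] at h0s
    refine (ih h0s.2).trans' H h ?_
    have := rel_set H h (Ne.intro h0s.1) (t := fun l => if l ∈ s then 1 else t' l)
      (by rw [if_neg h0s.2, h0]; exact hone) 0
    convert this using 1
    funext l
    rcases eq_or_ne l x with rfl | hl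
    · simp
    · simp [hl]

theorem prodW_injective [Fintype F] : Function.Injective (prodW H h (F := F)) := by
  classical
  let S : Subgroup (GL T.I F) := (prodW H h).range.map (T.datum.group F).subtype
  have hcl : T.Closed (fun r => ∃ i, d i = r) := by
    rintro r hr s hs ⟨i, rfl⟩ ⟨k, rfl⟩ hne - c hc
    rw [commT_eq_nil H.valid hr hs (h.2.2.1 i k fun e => hne (e ▸ rfl)).2.2] at hc
    simp at hc
  have hle : T.rootGen F (fun r => (∃ i, d i = r) ∧ T.half ≤ r) ≤ S :=
    rootGen_le fun r hr ⟨⟨i, hi⟩, _⟩ t => ⟨gx H (d i) t, ⟨_, prodW_single H h i t⟩, by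
      subst hi; exact gx_val H hr t⟩
  have hcard := card_closed H.valid H.comm hcl T.half T.half (Nat.two_mul _).symm le_rfl (F := F)
  have hm : ((Finset.Ico T.half T.n).filter fun r => ∃ i, d i = r).card = m := by
    rw [show ((Finset.Ico T.half T.n).filter fun r => ∃ i, d i = r) = Finset.univ.image d by
      ext r
      simp only [Finset.mem_filter, Finset.mem_Ico, Finset.mem_image, Finset.mem_univ, true_and]
      exact ⟨fun hr => hr.2, fun ⟨i, hi⟩ => ⟨hi ▸ ⟨(h.2.1 i).2.1, (h.2.1 i).1⟩, i, hi⟩⟩,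
      Finset.card_image_of_injective _ fun i k e => by
        by_contra hne
        exact (h.2.2.1 i k hne).1 e, Finset.card_univ, Fintype.card_fin]
  rw [hm] at hcard
  haveI : Finite (GL T.I F) := inferInstance
  have h1 := Subgroup.card_le_of_le hle
  rw [hcard, show Nat.card S = Nat.card (prodW H h (F := F)).range from
    Subgroup.card_map_of_injective (T.datum.group F).subtype_injective] at h1
  have hsurj := (prodW H h (F := F)).rangeRestrict_surjective
  have hcard' : Nat.card (Fin m → Multiplicative F) ≤ Nat.card (prodW H h (F := F)).range := by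
    rw [Nat.card_fun, Nat.card_eq_fintype_card (α := Fin m), Fintype.card_fin]
    simpa [Nat.card_eq_fintype_card] using h1
  have hb := hsurj.bijective_of_nat_card_le hcard'
  exact fun x y e => hb.1 (Subtype.ext e)

/-- The acting group centralizes the root elements at `z`. -/
theorem actGroup_le : actGroup H (d := d) (p := p) ≤
    Subgroup.centralizer ({gx H z (1 : F)} : Set ↥(T.datum.group F)) := by
  refine (Subgroup.closure_le _).2 ?_
  rintro g (⟨i, k, hik, a, rfl⟩ | ⟨i, a, rfl⟩)
  · obtain ⟨hp, hne, hs, -⟩ := h.2.2.2 i k hik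
    exact Subgroup.mem_centralizer_singleton_iff.2 (gx_commute H h.1 hp hne hs 1 a).symm
  · obtain ⟨hp, -, hne, hs⟩ := h.2.1 i
    exact Subgroup.mem_centralizer_singleton_iff.2 (gx_commute H h.1 hp hne hs 1 a).symm

theorem mem_range_conj {g : ↥(T.datum.group F)} (hg : g ∈ actGroup H (d := d) (p := p) (F := F)) :
    g ∈ Subgroup.normalizer ((prodW H h (F := F)).range : Set ↥(T.datum.group F)) := by
  revert g
  show actGroup H (d := d) (p := p) (F := F) ≤ _
  refine (Subgroup.closure_le _).2 ?_
  have hin : ∀ g : ↥(T.datum.group F), (∀ t, g * prodW H h t * g⁻¹ ∈ (prodW H h (F := F)).range) →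
      (∀ t, g⁻¹ * prodW H h t * g ∈ (prodW H h (F := F)).range) →
      g ∈ Subgroup.normalizer ((prodW H h (F := F)).range : Set ↥(T.datum.group F)) := by
    intro g h1 h2 y
    refine ⟨?_, fun hy => ?_⟩
    · rintro ⟨t, rfl⟩; exact h1 t
    · obtain ⟨t, ht⟩ := hy
      have := h2 t
      rw [ht] at this
      simpa [mul_assoc] using this
  rintro g (⟨i, k, hik, a, rfl⟩ | ⟨i, a, rfl⟩)
  · obtain ⟨e, -, hc⟩ := conj_prodW H h hik (F := F)
    refine hin _ (fun t => ⟨tshift i k (e * -a) t, ?_⟩) fun t => ⟨tshift i k (e * a) t, ?_⟩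
    · rw [← hc (-a) t, neg_neg, gx_neg]
    · rw [← hc a t, gx_neg]
  · exact Subgroup.le_normalizer ⟨_, prodW_single H h i a⟩

/-- The number of nonzero tuples divides the order of the centralizer. -/
theorem dvd_card_centralizer [Fintype F] (i0 i1 : Fin m) (h01 : i0 ≠ i1) :
    Fintype.card F ^ m - 1 ∣ Nat.card (Subgroup.centralizer ({gx H z (1 : F)} : Set ↥(T.datum.group F))) := by
  classical
  haveI : Finite ↥(T.datum.group F) := inferInstance
  set L := actGroup H (d := d) (p := p) (F := F)
  have hmem : ∀ t, prodW H h t ∈ L := fun t => by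
    exact Subgroup.noncommProd_mem L (t := Finset.univ) (f := fun i => gx H (d i) (t i).toAdd)
      (fun i _ k _ hik => gx_commute H (h.2.1 i).1 (h.2.1 k).1 (h.2.2.1 i k hik).2.1 (h.2.2.1 i k hik).2.2 _ _)
      fun i _ => Subgroup.subset_closure (Or.inr ⟨i, _, rfl⟩)
  set b : ↥L := ⟨_, hmem (Pi.mulSingle i0 (Multiplicative.ofAdd 1))⟩
  have hne : ∀ t : Fin m → Multiplicative F, t ≠ 1 → IsConj (⟨_, hmem t⟩ : ↥L) b := fun t ht => by
    obtain ⟨g, hg, e⟩ := rel_base H h i0 i1 h01 ht
    exact isConj_iff.2 ⟨⟨g, hg⟩, Subtype.ext e⟩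
  let f : {t : Fin m → Multiplicative F // t ≠ 1} → {x : ↥L // IsConj x b} := fun t => ⟨_, hne t.1 t.2⟩
  have hb : Pi.mulSingle i0 (Multiplicative.ofAdd (1 : F)) ≠ (1 : Fin m → Multiplicative F) := fun e => by
    have := congrFun e i0
    rw [Pi.mulSingle_eq_same] at this
    exact one_ne_zero (α := F) this
  have hf : Function.Bijective f := by
    refine ⟨fun s t e => Subtype.ext (prodW_injective H h (congrArg (fun y => (y.1.1)) e)), fun y => ?_⟩
    obtain ⟨g, hg⟩ := isConj_iff.1 y.2.symm
    obtain ⟨t, ht⟩ := (mem_range_conj H h g.2 _).1 ⟨Pi.mulSingle i0 (Multiplicative.ofAdd 1), rfl⟩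
    have ey : (y.1 : ↥(T.datum.group F)) = prodW H h t := by rw [ht, ← hg]; rfl
    refine ⟨⟨t, fun e => hb (prodW_injective H h ?_)⟩, Subtype.ext (Subtype.ext ey.symm)⟩
    have h1 : (y.1 : ↥(T.datum.group F)) = 1 := by rw [ey, e, map_one]
    have h2 : y.1 = (1 : ↥L) := Subtype.ext h1
    have h3 := y.2
    rw [h2, isConj_one_right] at h3
    exact (congrArg Subtype.val h3).trans (map_one _).symm
  refine dvd_trans ?_ (Subgroup.card_dvd_of_le (actGroup_le H h))
  have hcard := Nat.card_eq_of_bijective f hf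
  rw [CfsgLib.Char.card_isConj_eq_index] at hcard
  have hidx := Subgroup.index_dvd_card (Subgroup.centralizer ({b} : Set ↥L))
  rw [← hcard, Nat.card_eq_fintype_card (α := {t : Fin m → Multiplicative F // t ≠ 1}),
    Fintype.card_subtype_compl, Fintype.card_subtype_eq, Fintype.card_fun, Fintype.card_fin,
    Fintype.card_multiplicative] at hidx
  exact hidx

end CfsgLib.KnownA.MinDegLaced
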