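import Cfsg.Agent.Lib.KnownA.MinDegLaced.Bound
import Cfsg.Agent.Lib.KnownA.MinDegLaced.Orbit
import Cfsg.Agent.Lib.KnownA.MinDegLaced.DataE6
import Cfsg.Agent.Lib.KnownA.MinDegLaced.ArithE6
import Cfsg.Agent.Lib.KnownA.SteinbergCert.E6
import Cfsg.Agent.Lib.Chevalley.TablesCerts
import Cfsg.Agent.Lib.Chevalley.Data.SmithCerts
import Cfsg.Agent.Lib.Chevalley.Data.Steps
import Cfsg.Agent.Lib.Chevalley.Orders
import Cfsg.Agent.Lib.Char.Integral

/-!
The smallest degree of a nontrivial representation of E₆(q).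
-/

set_option autoImplicit false
set_option maxRecDepth 20000

namespace CfsgLib.KnownA.MinDegLaced.E6

open CfsgLib.Chevalley CfsgLib.Chevalley.Tbl
open Module (finrank)

theorem hyp : Hyp Data.E6.tbl :=
  ⟨Data.E6.valid, Data.E6.chkComm, SteinbergUniv.e6_chkLaced⟩

theorem simple (F : Type*) [Field F] : IsSimpleGroup ↥(Data.E6.tbl.datum.group F) :=
  (Tbl.simple_group Data.E6.valid Data.E6.chkComm (fun h => absurd h Bool.false_ne_true)
    Data.E6.chkPerfect Data.E6.chkConn).1

theorem card_dvd (F : Type*) [Field F] [Fintype F] :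
    Nat.card ↥(Data.E6.tbl.datum.group F) ∣
      Fintype.card F ^ 36 * (degs.map fun e => Fintype.card F ^ e - 1).prod :=
  Dvd.intro_left _ (Tbl.group_order Data.E6.valid Data.E6.chkComm rfl Data.E6.chkSmith Data.E6.steps_length
    Data.E6.chkSteps Data.E6.Reps.chkPoly_reps)

/-- The module of the Levi subgroup of type A₄. -/
def actD : Fin 5 → ℕ := fun i => [36, 38, 41, 45, 60].getD i.val 0

/-- The root elements moving the module. -/
def actP : Fin 5 → Fin 5 → ℕ := fun i k =>
  ([[0, 37, 40, 44, 59], [34, 0, 39, 43, 58], [31, 32, 0, 42, 57], [27, 28, 29, 0, 56],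
    [12, 13, 14, 15, 0]].getD i.val []).getD k.val 0

theorem actOK : ActOK Data.E6.tbl 5 71 actD actP := by
  unfold ActOK
  decide +kernel

/-- The exceptions to the exclusion by the order. -/
theorem small_dvd : ((List.range 7).all fun q => (List.range 7).all fun j =>
    Nat.blt q 2 || Nat.blt j 1 || (q == 2 && j == 2) || (q == 4 && j == 4) ||
      !(q ^ 36 * (degs.map fun e => q ^ e - 1).prod % (nEval target q - j) == 0)) = true := by
  decide +kernel

theorem count_cert : pIsZero (pAdd (pAdd (pMul [-1, 1]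
      (pHist ((cert.top.length + 1) :: cert.steps.map fun st => st.pairs.length))) [((6 : ℕ) : ℤ)])
      (pScale (-1) (target.map fun a : ℕ => (a : ℤ)))) = true := by decide +kernel

theorem nEval_target (q : ℕ) : nEval target q = q * (q ^ 6 + q ^ 3 + 1) * (q ^ 4 + 1) := by
  simp [nEval, target]
  ring

theorem not_thirtyone {F : Type*} [Field F] [Fintype F] {k : ℕ}
    (ρ : Representation ℂ ↥(Data.E6.tbl.datum.group F) (Fin k → ℂ)) [ρ.IsIrreducible]
    (hχ : ρ.character (gx hyp 71 (1 : F)) = (k : ℂ) - ((Fintype.card F ^ 11 : ℕ) : ℂ))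
    (hq : Fintype.card F = 2 ∨ Fintype.card F = 4) (h31 : 31 ∣ k) (hle : Fintype.card F ^ 11 ≤ k) : False := by
  haveI : Finite ↥(Data.E6.tbl.datum.group F) := inferInstance
  set z := gx hyp 71 (1 : F)
  set C := Subgroup.centralizer ({z} : Set ↥(Data.E6.tbl.datum.group F))
  have hC : 31 ∣ Nat.card C := by
    refine dvd_trans ?_ (dvd_card_centralizer hyp actOK 0 1 (by decide))
    rcases hq with h | h <;> rw [h] <;> decide
  have hG : ¬ 31 ^ 2 ∣ Nat.card ↥(Data.E6.tbl.datum.group F) := fun h => by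
    have := h.trans (card_dvd F)
    rcases hq with h' | h' <;> rw [h'] at this <;> revert this <;> decide +kernel
  have hi : ¬ 31 ∣ C.index := fun h => hG (by
    rw [pow_two, ← C.index_mul_card]
    exact mul_dvd_mul h hC)
  have hint := Char.isIntegral_centralChar ρ z
  rw [hχ, Module.finrank_fin_fun, ← Nat.cast_sub hle, ← Nat.cast_mul] at hint
  have hdvd := Char.dvd_of_isIntegral_div (by intro h; subst h; simp at hle) hint
  have h2 := h31.trans hdvd
  have hp : Nat.Prime 31 := by norm_num
  rcases hp.dvd_mul.1 h2 with h | h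
  · exact hi h
  · have := (Nat.dvd_sub h31 h)
    rw [Nat.sub_sub_self hle] at this
    have := hp.dvd_of_dvd_pow this
    rcases hq with h' | h' <;> rw [h'] at this <;> revert this <;> decide

theorem degree_bound {F : Type*} [Field F] [Fintype F] {k : ℕ}
    (ρ : Representation ℂ ↥(Data.E6.tbl.datum.group F) (Fin k → ℂ)) (hρ : ρ.IsIrreducible) (hk : 2 ≤ k) :
    Fintype.card F * (Fintype.card F ^ 6 + Fintype.card F ^ 3 + 1) * (Fintype.card F ^ 4 + 1) ≤ k := by
  haveI := hρ
  haveI := simple F
  set q := Fintype.card F with hqdef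
  have hqp : IsPrimePow q := FiniteField.isPrimePow_card F
  have hq2 := hqp.two_le
  have hfr : finrank ℂ (Fin k → ℂ) = k := Module.finrank_fin_fun ℂ
  have h := bound hyp ρ headOK_cert stepsOK_cert (by rw [hfr]; exact hk)
  rw [hfr, ← hqdef] at h
  rw [← nEval_target]
  have hT := count_eq _ target 6 q (by omega) count_cert
  rw [List.map_cons, List.sum_cons, List.map_map] at hT
  have hpow : ∀ a b : ℕ, a ≤ b → q ^ a ≤ q ^ b := fun a b h => Nat.pow_le_pow_right (by omega) h
  have hTeq : nEval target q = q ^ 11 + q ^ 8 + q ^ 7 + q ^ 5 + q ^ 4 + q := by rw [nEval_target]; ring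
  rcases h with ⟨h, hχ⟩ | h
  · have hlow : nEval target q ≤ k + 6 := by
      rw [← hT]
      exact Nat.add_le_add_right h 6
    by_contra hlt
    obtain ⟨j, hj⟩ := Nat.le.dest (Nat.le_of_lt (not_le.1 hlt))
    have hj1 : 1 ≤ j := by omega
    have hj6 : j ≤ 6 := by omega
    have hd : k ∣ q ^ 36 * (degs.map fun e => q ^ e - 1).prod := by
      have := Char.finrank_dvd_card ρ
      rw [hfr] at this
      exact this.trans (card_dvd F)
    have hkq : q ^ 11 ≤ k := by
      have := hpow 4 8 (by omega)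
      have : 2 ^ 7 ≤ q ^ 7 := Nat.pow_le_pow_left hq2 7
      omega
    rcases Nat.lt_or_ge q 7 with hq7 | hq7
    · by_cases e2 : q = 2 ∧ j = 2
      · refine not_thirtyone ρ ?_ (Or.inl e2.1) ?_ hkq
        · rw [show (71 : ℕ) = cert.rho from rfl, hχ]; show _ - _ * ((q ^ (cert.top.length + 1) : ℕ) : ℂ) = _
          rw [show cert.top.length + 1 = 10 from rfl, ← hqdef]; push_cast; ring
        · obtain rfl : k = 2480 := by rw [hTeq, e2.1, e2.2] at hj; omega
          norm_num
      by_cases e4 : q = 4 ∧ j = 4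
      · refine not_thirtyone ρ ?_ (Or.inr e4.1) ?_ hkq
        · rw [show (71 : ℕ) = cert.rho from rfl, hχ]; show _ - _ * ((q ^ (cert.top.length + 1) : ℕ) : ℂ) = _
          rw [show cert.top.length + 1 = 10 from rfl, ← hqdef]; push_cast; ring
        · obtain rfl : k = 4277504 := by rw [hTeq, e4.1, e4.2] at hj; omega
          norm_num
      have hs := small_dvd
      simp only [List.all_eq_true, List.mem_range, Bool.or_eq_true, Bool.and_eq_true, beq_iff_eq,
        Bool.not_eq_true', beq_eq_false_iff_ne] at hs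
      rcases hs q hq7 j (by omega) with (((h' | h') | h') | h') | h'
      · have := Nat.le_of_ble_eq_true h'; omega
      · have := Nat.le_of_ble_eq_true h'; omega
      · exact e2 h'
      · exact e4 h'
      · rw [← hj, Nat.add_sub_cancel] at h'
        exact h' (Nat.mod_eq_zero_of_dvd hd)
    · have key : ∀ {Q low : List ℤ} {c : ℤ} {B a : ℕ},
          redOK (target.map fun a : ℕ => (a : ℤ)) degs j B Q low c = true →
          smallOK target 7 a j (posP (low ++ [c])) (negP (low ++ [c])) = true → B ≤ 128 * a →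
          low.length + 1 = 11 → False := fun hr hs hB hl =>
        not_dvd_order hr hs hB hq7 hqp hj1 (by omega) ((nEval_target q).trans (mul_assoc _ _ _))
          (hj.trans ((nEval_target q).trans (mul_assoc _ _ _))) (hl ▸ hkq) hd
      obtain rfl | rfl | rfl | rfl | rfl | rfl : j = 1 ∨ j = 2 ∨ j = 3 ∨ j = 4 ∨ j = 5 ∨ j = 6 := by omega
      · exact key red1 small1 (by norm_num) rfl
      · exact key red2 small2 (by norm_num) rfl
      · exact key red3 small3 (by norm_num) rfl
      · exact key red4 small4 (by norm_num) rfl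
      · exact key red5 small5 (by norm_num) rfl
      · exact key red6 small6 (by norm_num) rfl
  · rw [show cert.top.length + 1 = 10 from rfl, show cert.top.length = 9 from rfl] at h
    refine le_trans ?_ h
    rw [hTeq]
    obtain ⟨n, hn⟩ : ∃ n, q = n + 2 := ⟨q - 2, by omega⟩
    rw [hn]
    simp only [hn] at hpow
    have h1 : (n + 2) ^ 11 = (n + 2) * (n + 2) ^ 10 := by ring
    have h2 : (n + 2) ^ 10 = (n + 2) * (n + 2) ^ 9 := by ring
    have h3 : 2 * (n + 2 - 1) * ((n + 2) ^ 10 + (n + 2) ^ 9) = 2 * (n + 1) * (n + 3) * (n + 2) ^ 9 := by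
      rw [show n + 2 - 1 = n + 1 by omega]; ring
    rw [h3, h1, h2]
    have a8 := hpow 8 9 (by omega)
    have a7 : 4 * (n + 2) ^ 7 ≤ (n + 2) ^ 9 := by
      rw [show (n + 2) ^ 9 = (n + 2) * (n + 2) * (n + 2) ^ 7 by ring]
      exact Nat.mul_le_mul_right _ (by nlinarith)
    have a5 := hpow 5 7 (by omega)
    have a4 := hpow 4 7 (by omega)
    have a1 := hpow 1 7 (by omega)
    rw [pow_one] at a1
    have : (n + 2) * ((n + 2) * (n + 2) ^ 9) + 2 * (n + 2) ^ 9 ≤ 2 * (n + 1) * (n + 3) * (n + 2) ^ 9 := by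
      rw [← mul_assoc, ← add_mul]
      refine Nat.mul_le_mul_right _ ?_
      nlinarith
    omega

end CfsgLib.KnownA.MinDegLaced.E6
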