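import Cfsg.Agent.Lib.KnownA.MinDegLaced.Bound
import Cfsg.Agent.Lib.KnownA.MinDegLaced.DataE8
import Cfsg.Agent.Lib.KnownA.MinDegLaced.ArithE8
import Cfsg.Agent.Lib.KnownA.SteinbergCert.E8
import Cfsg.Agent.Lib.Chevalley.TablesCerts
import Cfsg.Agent.Lib.Chevalley.Data.SmithCerts
import Cfsg.Agent.Lib.Chevalley.Data.Steps
import Cfsg.Agent.Lib.Chevalley.Orders
import Cfsg.Agent.Lib.Char.Integral

/-!
The smallest degree of a nontrivial representation of E₈(q).
-/

set_option autoImplicit false
set_option maxRecDepth 20000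

namespace CfsgLib.KnownA.MinDegLaced.E8

open CfsgLib.Chevalley CfsgLib.Chevalley.Tbl
open Module (finrank)

theorem hyp : Hyp Data.E8.tbl :=
  ⟨Data.E8.valid, Data.E8.chkComm, SteinbergUniv.e8_chkLaced⟩

theorem simple (F : Type*) [Field F] : IsSimpleGroup ↥(Data.E8.tbl.datum.group F) :=
  (Tbl.simple_group Data.E8.valid Data.E8.chkComm (fun h => absurd h Bool.false_ne_true)
    Data.E8.chkPerfect Data.E8.chkConn).1

theorem card_dvd (F : Type*) [Field F] [Fintype F] :
    Nat.card ↥(Data.E8.tbl.datum.group F) ∣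
      Fintype.card F ^ 120 * (degs.map fun e => Fintype.card F ^ e - 1).prod :=
  Dvd.intro_left _ (Tbl.group_order Data.E8.valid Data.E8.chkComm rfl Data.E8.chkSmith Data.E8.steps_length
    Data.E8.chkSteps Data.E8.Reps.chkPoly_reps)

/-- The exclusion by the order over the small fields. -/
theorem small_dvd : ((List.range 9).all fun q => (List.range 9).all fun j =>
    Nat.blt q 2 || Nat.blt j 1 ||
      !(q ^ 120 * (degs.map fun e => q ^ e - 1).prod % (nEval target q - j) == 0)) = true := by
  decide +kernel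

theorem count_cert : pIsZero (pAdd (pAdd (pMul [-1, 1]
      (pHist ((cert.top.length + 1) :: cert.steps.map fun st => st.pairs.length))) [((8 : ℕ) : ℤ)])
      (pScale (-1) (target.map fun a : ℕ => (a : ℤ)))) = true := by decide +kernel

theorem nEval_target (q : ℕ) : nEval target q = q * (q ^ 12 + 1) * (q ^ 10 + 1) * (q ^ 6 + 1) := by
  have h : ∀ a l, nEval (a :: l) q = a + q * nEval l q := fun _ _ => rfl
  have h0 : nEval [] q = 0 := rfl
  simp only [target, h, h0, zero_add, mul_zero, add_zero]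
  ring

theorem degree_bound {F : Type*} [Field F] [Fintype F] {k : ℕ}
    (ρ : Representation ℂ ↥(Data.E8.tbl.datum.group F) (Fin k → ℂ)) (hρ : ρ.IsIrreducible) (hk : 2 ≤ k) :
    Fintype.card F * (Fintype.card F ^ 12 + 1) * (Fintype.card F ^ 10 + 1) * (Fintype.card F ^ 6 + 1) ≤ k := by
  haveI := hρ
  haveI := simple F
  set q := Fintype.card F with hqdef
  have hqp : IsPrimePow q := FiniteField.isPrimePow_card F
  have hq2 := hqp.two_le
  have hfr : finrank ℂ (Fin k → ℂ) = k := Module.finrank_fin_fun ℂ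
  have h := bound hyp ρ headOK_cert stepsOK_cert (by rw [hfr]; exact hk)
  rw [hfr, ← hqdef] at h
  rw [← nEval_target]
  have hT := count_eq _ target 8 q (by omega) count_cert
  rw [List.map_cons, List.sum_cons, List.map_map] at hT
  have hpow : ∀ a b : ℕ, a ≤ b → q ^ a ≤ q ^ b := fun a b h => Nat.pow_le_pow_right (by omega) h
  have hTeq : nEval target q = q ^ 29 + q ^ 23 + q ^ 19 + q ^ 17 + q ^ 13 + q ^ 11 + q ^ 7 + q := by
    rw [nEval_target]; ring
  rcases h with ⟨h, -⟩ | h
  · have hlow : nEval target q ≤ k + 8 := by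
      rw [← hT]
      exact Nat.add_le_add_right h 8
    by_contra hlt
    obtain ⟨j, hj⟩ := Nat.le.dest (Nat.le_of_lt (not_le.1 hlt))
    have hj1 : 1 ≤ j := by omega
    have hj8 : j ≤ 8 := by omega
    have hd : k ∣ q ^ 120 * (degs.map fun e => q ^ e - 1).prod := by
      have := Char.finrank_dvd_card ρ
      rw [hfr] at this
      exact this.trans (card_dvd F)
    have hkq : q ^ 29 ≤ k := by
      have : 2 ^ 7 ≤ q ^ 7 := Nat.pow_le_pow_left hq2 7
      omega
    rcases Nat.lt_or_ge q 9 with hq9 | hq9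
    · have hs := small_dvd
      simp only [List.all_eq_true, List.mem_range, Bool.or_eq_true, beq_iff_eq,
        Bool.not_eq_true', beq_eq_false_iff_ne] at hs
      rcases hs q hq9 j (by omega) with (h' | h') | h'
      · have := Nat.le_of_ble_eq_true h'; omega
      · have := Nat.le_of_ble_eq_true h'; omega
      · rw [← hj, Nat.add_sub_cancel] at h'
        exact h' (Nat.mod_eq_zero_of_dvd hd)
    · have ht : nEval target q = q * ((q ^ 12 + 1) * (q ^ 10 + 1) * (q ^ 6 + 1)) := by rw [nEval_target]; ring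
      have key : ∀ {Q low : List ℤ} {c : ℤ} {B a : ℕ},
          redOK (target.map fun a : ℕ => (a : ℤ)) degs j B Q low c = true →
          smallOK target 9 a j (posP (low ++ [c])) (negP (low ++ [c])) = true → B ≤ 128 * a →
          low.length + 1 = 29 → False := fun hr hs hB hl =>
        not_dvd_order hr hs hB hq9 hqp hj1 (by omega) ht (hj.trans ht) (hl ▸ hkq) hd
      obtain rfl | rfl | rfl | rfl | rfl | rfl | rfl | rfl :
          j = 1 ∨ j = 2 ∨ j = 3 ∨ j = 4 ∨ j = 5 ∨ j = 6 ∨ j = 7 ∨ j = 8 := by omega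
      · exact key red1 small1 (by norm_num) rfl
      · exact key red2 small2 (by norm_num) rfl
      · exact key red3 small3 (by norm_num) rfl
      · exact key red4 small4 (by norm_num) rfl
      · exact key red5 small5 (by norm_num) rfl
      · exact key red6 small6 (by norm_num) rfl
      · exact key red7 small7 (by norm_num) rfl
      · exact key red8 small8 (by norm_num) rfl
  · rw [show cert.top.length + 1 = 28 from rfl, show cert.top.length = 27 from rfl] at h
    refine le_trans ?_ h
    rw [hTeq]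
    obtain ⟨n, hn⟩ : ∃ n, q = n + 2 := ⟨q - 2, by omega⟩
    rw [hn]
    simp only [hn] at hpow
    have h1 : (n + 2) ^ 29 = (n + 2) * (n + 2) ^ 28 := by ring
    have h2 : (n + 2) ^ 28 = (n + 2) * (n + 2) ^ 27 := by ring
    have h3 : 2 * (n + 2 - 1) * ((n + 2) ^ 28 + (n + 2) ^ 27) = 2 * (n + 1) * (n + 3) * (n + 2) ^ 27 := by
      rw [show n + 2 - 1 = n + 1 by omega]; ring
    rw [h3, h1, h2]
    have a23 : 16 * (n + 2) ^ 23 ≤ (n + 2) ^ 27 := by
      rw [show (n + 2) ^ 27 = (n + 2) ^ 4 * (n + 2) ^ 23 by ring]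
      exact Nat.mul_le_mul_right _ (Nat.pow_le_pow_left (show 2 ≤ n + 2 by omega) 4)
    have a19 := hpow 19 23 (by omega)
    have a17 := hpow 17 23 (by omega)
    have a13 := hpow 13 23 (by omega)
    have a11 := hpow 11 23 (by omega)
    have a7 := hpow 7 23 (by omega)
    have a1 := hpow 1 23 (by omega)
    rw [pow_one] at a1
    have : (n + 2) * ((n + 2) * (n + 2) ^ 27) + 1 * (n + 2) ^ 27 ≤ 2 * (n + 1) * (n + 3) * (n + 2) ^ 27 := by
      rw [← mul_assoc, ← add_mul]
      refine Nat.mul_le_mul_right _ ?_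
      nlinarith
    omega

end CfsgLib.KnownA.MinDegLaced.E8
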