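import Cfsg.Agent.Lib.KnownA.MinDegLaced.Check
import Cfsg.Agent.Lib.KnownA.MinDeg.Eigen

/-!
Spaces of joint eigenvectors of root groups in a simply laced Chevalley group, and their moves.
-/

set_option autoImplicit false
set_option linter.unusedSectionVars false

namespace CfsgLib.KnownA.MinDegLaced

open CfsgLib.Chevalley CfsgLib.Chevalley.Tbl CfsgLib.KnownA.MinDeg CfsgLib.KnownA.SteinbergUniv
open Module (finrank)

/-- The standing hypotheses. -/
structure Hyp (T : Tbl) : Prop where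
  valid : T.Valid
  comm : T.chkComm = true
  laced : chkLaced T = true

variable {T : Tbl} {F : Type*} [Field F] (H : Hyp T)

/-- The root elements. -/
noncomputable def gx (r : ℕ) : AddChar F ↥(T.datum.group F) :=
  if hr : r < T.n then
    { toFun := fun t => ⟨T.xU F r t, xU_mem_group H.valid hr t⟩
      map_zero_eq_one' := Subtype.ext (xU_zero H.valid hr)
      map_add_eq_mul' := fun a b => Subtype.ext (xU_add H.valid hr a b).symm }
  else 1

theorem gx_val {r : ℕ} (hr : r < T.n) (t : F) :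
    ((gx H r t : ↥(T.datum.group F)) : GL T.I F) = T.xU F r t := by
  simp [gx, dif_pos hr]

theorem gx_neg {r : ℕ} (t : F) : gx H r (-t) = (gx H r t)⁻¹ := by
  rw [eq_inv_iff_mul_eq_one, ← AddChar.map_add_eq_mul, neg_add_cancel, AddChar.map_zero_eq_one]

/-- The commutation of two root groups. -/
theorem gx_rel {r s : ℕ} (hr : r < T.n) (hs : s < T.n) (hne : s ≠ T.neg r) :
    (T.sum? r s = none ∧ ∀ a b : F, gx H s b * gx H r a = gx H r a * gx H s b) ∨
      ∃ w N, T.sum? r s = some (w, N) ∧ w < T.n ∧ ∃ e : F, e * e = 1 ∧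
        ∀ a b : F, gx H s b * gx H r a = gx H r a * (gx H s b * gx H w (e * (a * b))) := by
  by_cases hrs : s = r
  · subst hrs
    exact Or.inl ⟨sum?_self H.valid hr, fun a b => by
      rw [← AddChar.map_add_eq_mul, ← AddChar.map_add_eq_mul, add_comm]⟩
  have key : ∀ a b : F, Tbl.Comm T F r s a b := fun a b => comm_formula H.valid H.comm hr hs hrs hne a b
  cases h : T.sum? r s with
  | none =>
    refine Or.inl ⟨rfl, fun a b => Subtype.ext (Units.ext ?_)⟩
    have e := key a b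
    rw [Tbl.Comm, commT_eq_nil H.valid hr hs h] at e
    simpa [gx_val H hr, gx_val H hs, xU_val H.valid hr, xU_val H.valid hs, wordX] using e
  | some p =>
    obtain ⟨w, N⟩ := p
    obtain ⟨hN, hT', -⟩ := sum_facts H.laced hr hs h
    have hw : w < T.n := sum?_lt H.valid hr hs h
    refine Or.inr ⟨w, N, rfl, hw, (-(N : F)), by rw [neg_mul_neg]; exact cast_mul_self hN,
      fun a b => Subtype.ext (Units.ext ?_)⟩
    have e := key a b
    rw [Tbl.Comm, hT'] at e
    simp only [wordX, List.map_cons, List.map_nil, List.prod_cons, List.prod_nil, mul_one, pow_one,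
      Int.cast_mul, Int.cast_neg, Int.cast_one, neg_mul, one_mul] at e
    simp only [Subgroup.coe_mul, gx_val H hr, gx_val H hs, gx_val H hw, Units.val_mul, xU_val H.valid hr,
      xU_val H.valid hs, xU_val H.valid hw]
    rw [← mul_assoc, e]
    congr 2
    ring

variable {V : Type*} [AddCommGroup V] [Module ℂ V] (ρ : Representation ℂ ↥(T.datum.group F) V)
variable (ψ : AddChar F ℂ)

/-- The vectors fixed by the root groups of a list. -/
noncomputable def Z0 (S : List ℕ) : Submodule ℂ V where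
  carrier := {v | ∀ r ∈ S, ∀ t : F, ρ (gx H r t) v = v}
  add_mem' := fun {u v} hu hv r hr t => by rw [map_add, hu r hr t, hv r hr t]
  zero_mem' := fun r _ t => map_zero _
  smul_mem' := fun c v hv r hr t => by rw [map_smul, hv r hr t]

/-- Fixed by a list and an eigenvector at one further root. -/
noncomputable def J (S : List ℕ) (b : ℕ) (c : F) : Submodule ℂ V := Z0 H ρ S ⊓ eig ρ ψ (gx H b) c

theorem mem_Z0_cons {d : ℕ} {S : List ℕ} {v : V} :
    v ∈ Z0 H ρ (d :: S) ↔ v ∈ Z0 H ρ S ∧ v ∈ eig ρ ψ (gx H d) 0 := by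
  rw [mem_eig_zero]
  exact ⟨fun h => ⟨fun r hr => h r (List.mem_cons_of_mem _ hr), h d List.mem_cons_self⟩,
    fun ⟨h1, h2⟩ r hr => by
      rcases List.mem_cons.1 hr with rfl | hr
      · exact h2
      · exact h1 r hr⟩

theorem Z0_cons (d : ℕ) (S : List ℕ) : Z0 H ρ (d :: S) = Z0 H ρ S ⊓ eig ρ ψ (gx H d) 0 :=
  Submodule.ext fun _ => mem_Z0_cons H ρ ψ

theorem J_cons (d : ℕ) (S : List ℕ) (b : ℕ) (c : F) :
    J H ρ ψ (d :: S) b c = J H ρ ψ S b c ⊓ eig ρ ψ (gx H d) 0 := by
  rw [J, J, Z0_cons H ρ ψ, inf_right_comm]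

theorem elem_mem {x : ℕ} {S : List ℕ} (h : S.elem x = true) : x ∈ S := List.elem_iff.1 h

/-- A root element moving into the fixed part keeps a coordinate. -/
theorem keep {S : List ℕ} {d x : ℕ} (hd : d < T.n) (hx : x < T.n) (h : sumIn T S d x = true) {l : F} {v : V}
    (hS : ∀ r ∈ S, ∀ t : F, ρ (gx H r t) v = v) (hv : ∀ t : F, ρ (gx H d t) v = ψ (l * t) • v) (a t : F) :
    ρ (gx H d t) (ρ (gx H x a) v) = ψ (l * t) • ρ (gx H x a) v := by
  simp only [sumIn, Bool.and_eq_true, Bool.not_eq_true'] at h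
  obtain ⟨hne, hsum⟩ := h
  have hne' : d ≠ T.neg x := fun e => by rw [e, Nat.beq_refl] at hne; simp at hne
  rw [← Module.End.mul_apply, ← map_mul]
  rcases gx_rel H hx hd hne' (F := F) with ⟨-, hc⟩ | ⟨w, N, hs, -, e, -, hc⟩
  · rw [hc, map_mul, Module.End.mul_apply, hv, map_smul]
  · rw [hs] at hsum
    rw [hc, map_mul, Module.End.mul_apply, map_mul, Module.End.mul_apply, hS w (elem_mem hsum), hv, map_smul]

theorem Z0_step {S : List ℕ} {x : ℕ} (hx : x < T.n) (hS : ∀ d ∈ S, d < T.n)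
    (h : ∀ d ∈ S, sumIn T S d x = true) : Stable ρ (gx H x) (Z0 H ρ S) := by
  intro a v hv r hr t
  have := keep H ρ (1 : AddChar F ℂ) (hS r hr) hx (h r hr) (l := 0) hv
    (fun t => by rw [hv r hr t]; simp) a t
  simpa using this

theorem J_step {S : List ℕ} {b x : ℕ} {c : F} (hx : x < T.n) (hb : b < T.n) (hS : ∀ d ∈ S, d < T.n)
    (h : ∀ d ∈ b :: S, sumIn T S d x = true) : Stable ρ (gx H x) (J H ρ ψ S b c) := fun a v hv =>
  ⟨Z0_step H ρ hx hS (fun d hd => h d (List.mem_cons_of_mem _ hd)) a v hv.1,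
    fun t => keep H ρ ψ hb hx (h b List.mem_cons_self) hv.1 hv.2 a t⟩

variable [Fintype F] [FiniteDimensional ℂ V]

/-- A shift of one coordinate: all its eigenspaces have the same dimension. -/
theorem split {S : List ℕ} {b d g : ℕ} {c : F} (hψ : ψ.IsPrimitive) (hc : c ≠ 0) (hb : b < T.n) (hd : d < T.n)
    (hS : ∀ r ∈ S, r < T.n) (h1 : stabOK T S b d = true) (h2 : shiftOK T S b d g = true) :
    finrank ℂ (J H ρ ψ S b c) = Fintype.card F * finrank ℂ (J H ρ ψ (d :: S) b c) := by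
  classical
  simp only [stabOK, Bool.and_eq_true, List.all_eq_true] at h1
  simp only [shiftOK, Bool.and_eq_true, List.all_eq_true, Bool.not_eq_true'] at h2
  obtain ⟨⟨⟨hg, hne⟩, hsum⟩, hall⟩ := h2
  have hg' : g < T.n := Nat.le_of_ble_eq_true hg
  have hne' : d ≠ T.neg g := fun e => by rw [e, Nat.beq_refl] at hne; simp at hne
  obtain ⟨u, N, hs, hu⟩ : ∃ u N, T.sum? g d = some (u, N) ∧ u = b := by
    cases hs : T.sum? g d with
    | none => rw [hs] at hsum; simp at hsum
    | some p => rw [hs] at hsum; exact ⟨p.1, p.2, rfl, Nat.eq_of_beq_eq_true hsum⟩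
  subst hu
  obtain ⟨hnone, -⟩ | ⟨w, N', hs', -, e, he, hrel⟩ := gx_rel H hg' hd hne' (F := F)
  · rw [hs] at hnone; simp at hnone
  obtain rfl : u = w := by rw [hs] at hs'; exact (Prod.mk.inj (Option.some.inj hs')).1
  have hstab := J_step H ρ ψ hd hb hS h1.2 (c := c)
  have hmv : ∀ m m' : F, finrank ℂ ↥(J H ρ ψ S u c ⊓ eig ρ ψ (gx H d) m) ≤
      finrank ℂ ↥(J H ρ ψ S u c ⊓ eig ρ ψ (gx H d) m') := by
    intro m m'
    refine finrank_le_of_map (ρ := ρ) (gx H g (e * (m' - m) / c)) fun v hv =>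
      ⟨J_step H ρ ψ hg' hb hS hall _ v hv.1, fun t => ?_⟩
    rw [← Module.End.mul_apply, ← map_mul, hrel, map_mul, Module.End.mul_apply, map_mul,
      Module.End.mul_apply, hv.1.2, map_smul, hv.2, smul_smul, map_smul, ← AddChar.map_add_eq_mul]
    congr 2
    field_simp
    linear_combination (m' - m) * t * he
  rw [finrank_eq_sum hψ hstab, Finset.sum_congr rfl fun m (_ : m ∈ Finset.univ) =>
    le_antisymm (hmv m 0) (hmv 0 m), Finset.sum_const, Finset.card_univ, smul_eq_mul, ← J_cons]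

theorem after_lt {S : List ℕ} (hS : ∀ r ∈ S, r < T.n) {b : ℕ} : ∀ L : List (ℕ × ℕ),
    pairsOK T S b L = true → ∀ r ∈ after S L, r < T.n := by
  intro L
  induction L generalizing S with
  | nil => exact fun _ => hS
  | cons p L ih =>
    obtain ⟨d, g⟩ := p
    intro h
    simp only [pairsOK, Bool.and_eq_true] at h
    refine ih ?_ h.2
    intro r hr
    rcases List.mem_cons.1 hr with rfl | hr
    · have := h.1.1
      simp only [stabOK, Bool.and_eq_true] at this
      exact Nat.le_of_ble_eq_true this.1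
    · exact hS r hr

theorem split_list {b : ℕ} {c : F} (hψ : ψ.IsPrimitive) (hc : c ≠ 0) (hb : b < T.n) : ∀ (L : List (ℕ × ℕ)) {S : List ℕ},
    (∀ r ∈ S, r < T.n) → pairsOK T S b L = true →
    finrank ℂ (J H ρ ψ S b c) = Fintype.card F ^ L.length * finrank ℂ (J H ρ ψ (after S L) b c) := by
  intro L
  induction L with
  | nil => intro S _ _; rw [List.length_nil, pow_zero, one_mul]; rfl
  | cons p L ih =>
    obtain ⟨d, g⟩ := p
    intro S hS h
    simp only [pairsOK, Bool.and_eq_true] at h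
    have hd : d < T.n := by
      have := h.1.1
      simp only [stabOK, Bool.and_eq_true] at this
      exact Nat.le_of_ble_eq_true this.1
    rw [split H ρ ψ hψ hc hb hd hS h.1.1 h.1.2, ih (by
      intro r hr
      rcases List.mem_cons.1 hr with rfl | hr
      · exact hd
      · exact hS r hr) h.2, List.length_cons, pow_succ, after]
    ring

/-- One root of the filtration. -/
theorem filter_step {S : List ℕ} {x : ℕ} (hψ : ψ.IsPrimitive) (hx : x < T.n) (hS : ∀ d ∈ S, d < T.n)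
    (h : ∀ d ∈ S, sumIn T S d x = true) {Y : ℕ} (hY : ∀ c : F, c ≠ 0 → Y ≤ finrank ℂ (J H ρ ψ S x c)) :
    finrank ℂ (Z0 H ρ (x :: S)) + (Fintype.card F - 1) * Y ≤ finrank ℂ (Z0 H ρ S) := by
  classical
  rw [finrank_eq_sum hψ (Z0_step H ρ hx hS h), ← Finset.add_sum_erase Finset.univ _ (Finset.mem_univ (0 : F)),
    ← Z0_cons H ρ ψ]
  refine Nat.add_le_add_left ?_ _
  refine le_trans (le_of_eq ?_) (Finset.sum_le_sum fun c hc => hY c (Finset.ne_of_mem_erase hc))
  rw [Finset.sum_const, Finset.card_erase_of_mem (Finset.mem_univ _), Finset.card_univ, smul_eq_mul]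

/-! ### Weyl elements and torus elements -/

/-- A product of fundamental reflections. -/
noncomputable def gw : List ℕ → ↥(T.datum.group F)
  | [] => 1
  | i :: w => (if hi : i < T.rank then
      ⟨T.nU F (T.simple i) 1, nU_mem_group H.valid (simple_lt H.valid hi) 1⟩ else 1) * gw w

theorem gw_conj : ∀ (w : List ℕ), (∀ i ∈ w, i < T.rank) → ∀ x < T.n,
    imgW T w x < T.n ∧ ∃ e : F, e * e = 1 ∧ ∀ t : F, gw H w * gx H x t = gx H (imgW T w x) (e * t) * gw H w := by
  intro w
  induction w with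
  | nil => exact fun _ x hx => ⟨hx, 1, one_mul 1, fun t => by simp [gw, imgW]⟩
  | cons i w ih =>
    intro hw x hx
    have hi : i < T.rank := hw i List.mem_cons_self
    obtain ⟨hy, e, he, hc⟩ := ih (fun j hj => hw j (List.mem_cons_of_mem _ hj)) x hx
    rw [imgW, force_eq]
    refine ⟨refl_lt H.valid hi hy, (T.eta i (imgW T w x) : F) * e, ?_, fun t => ?_⟩
    · rcases eta_sq H.valid hi hy with h | h <;> rw [h] <;> push_cast <;> linear_combination he
    · simp only [gw, dif_pos hi]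
      rw [mul_assoc, hc, ← mul_assoc, ← mul_assoc]
      congr 1
      refine Subtype.ext ?_
      rw [Subgroup.coe_mul, Subgroup.coe_mul, gx_val H hy, gx_val H (refl_lt H.valid hi hy),
        nU_simple_xU H.valid hi hy, mul_assoc]

/-- The transport of a space by a word. -/
theorem transport {w S S' : List ℕ} {b b' : ℕ} (h : mapsOK T w S b S' b' = true) (c : F) :
    ∃ e : F, e * e = 1 ∧ finrank ℂ (J H ρ ψ S b c) ≤ finrank ℂ (J H ρ ψ S' b' (e * c)) := by
  simp only [mapsOK, force_eq, Bool.and_eq_true, List.all_eq_true] at h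
  obtain ⟨⟨⟨⟨hw, hS⟩, hb⟩, hbb⟩, hS'⟩ := h
  have hw' : ∀ i ∈ w, i < T.rank := fun i hi => Nat.le_of_ble_eq_true (hw i hi)
  obtain ⟨-, e, he, hc⟩ := gw_conj H w hw' b (Nat.le_of_ble_eq_true hb) (F := F)
  rw [Nat.eq_of_beq_eq_true hbb] at hc
  refine ⟨e, he, finrank_le_of_map (ρ := ρ) (gw H w) fun v hv => ⟨fun x hx t => ?_, ?_⟩⟩
  · obtain ⟨hy, hyx⟩ := hS' x hx
    obtain ⟨-, e', he', hc'⟩ := gw_conj H w hw' _ (Nat.le_of_ble_eq_true (hS _ (elem_mem hy))) (F := F)
    rw [Nat.eq_of_beq_eq_true hyx] at hc'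
    have e1 := hc' (e' * t)
    rw [← mul_assoc, he', one_mul] at e1
    rw [← Module.End.mul_apply, ← map_mul, ← e1, map_mul, Module.End.mul_apply, hv.1 _ (elem_mem hy)]
  · have he0 : e ≠ 0 := fun h => by rw [h, zero_mul] at he; exact zero_ne_one he
    have := map_eig (y := gx H b') (g := gw H w) he0 (fun t => (hc t).symm) hv.2
    rwa [show c / e = e * c by rw [div_eq_iff he0, mul_comm e c, mul_assoc, he, mul_one]] at this

/-- A torus element. -/
noncomputable def gt {r : ℕ} (hr : r < T.n) (u : Fˣ) : ↥(T.datum.group F) :=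
  ⟨T.dU (T.hCh r u), diag_le_group H.valid (by
    rw [diagonalSubgroup_eq H.valid]
    exact Subgroup.subset_closure ⟨r, hr, u, rfl⟩)⟩

theorem gt_conj {r x : ℕ} (hr : r < T.n) (hx : x < T.n) (u : Fˣ) (t : F) :
    gx H x (((u ^ T.pair r x : Fˣ) : F) * t) * gt H hr u = gt H hr u * gx H x t :=
  (Subtype.ext (by
    rw [Subgroup.coe_mul, Subgroup.coe_mul, gx_val H hx, gx_val H hx]
    exact dU_conj_X H.valid (isChar_hCh H.valid r u) hx t)).symm

theorem gt_Z0 {r : ℕ} (hr : r < T.n) {S : List ℕ} (hS : ∀ x ∈ S, x < T.n) (u : Fˣ) {v : V}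
    (hv : v ∈ Z0 H ρ S) : ρ (gt H hr u) v ∈ Z0 H ρ S := fun x hx t => by
  have := gt_conj H hr (hS x hx) u ((((u ^ T.pair r x : Fˣ) : F))⁻¹ * t)
  rw [← mul_assoc, mul_inv_cancel₀ (Units.ne_zero _), one_mul] at this
  rw [← Module.End.mul_apply, ← map_mul, this, map_mul, Module.End.mul_apply, hv x hx]

theorem exists_unit {k : ℤ} (hk : k.natAbs = 1) {c c' : F} (hc : c ≠ 0) (hc' : c' ≠ 0) :
    ∃ u : Fˣ, c / ((u ^ k : Fˣ) : F) = c' := by
  rcases Int.natAbs_eq_iff.1 hk with rfl | rfl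
  · exact ⟨Units.mk0 (c / c') (div_ne_zero hc hc'), by simp [div_div_cancel₀ hc]⟩
  · exact ⟨Units.mk0 (c' / c) (div_ne_zero hc' hc), by simp; field_simp⟩

/-- The nonzero values at a root moved by the torus give spaces of one dimension. -/
theorem scale {S : List ℕ} {b : ℕ} (h : scaleOK T b = true) (hS : ∀ x ∈ S, x < T.n) {c c' : F}
    (hc : c ≠ 0) (hc' : c' ≠ 0) : finrank ℂ (J H ρ ψ S b c) = finrank ℂ (J H ρ ψ S b c') := by
  simp only [scaleOK, Bool.and_eq_true, List.any_eq_true, List.mem_range] at h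
  obtain ⟨hb, r, hr, hk⟩ := h
  have key : ∀ c c' : F, c ≠ 0 → c' ≠ 0 → finrank ℂ (J H ρ ψ S b c) ≤ finrank ℂ (J H ρ ψ S b c') := by
    intro c c' hc hc'
    obtain ⟨u, hu⟩ := exists_unit (Nat.eq_of_beq_eq_true hk) hc hc'
    refine finrank_le_of_map (ρ := ρ) (gt H hr u) fun v hv => ⟨gt_Z0 H ρ hr hS u hv.1, ?_⟩
    rw [← hu]
    exact map_eig (Units.ne_zero _) (fun t => gt_conj H hr (Nat.le_of_ble_eq_true hb) u t) hv.2
  exact le_antisymm (key c c' hc hc') (key c' c hc' hc)

/-- The values at one root with another one held, in both coordinates. -/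
theorem scale2 {S : List ℕ} {b a : ℕ} (h : scaleOK2 T b a = true) (hS : ∀ x ∈ S, x < T.n) {c c' m : F}
    (hc : c ≠ 0) (hc' : c' ≠ 0) :
    finrank ℂ ↥(J H ρ ψ S a m ⊓ eig ρ ψ (gx H b) c) = finrank ℂ ↥(J H ρ ψ S a m ⊓ eig ρ ψ (gx H b) c') := by
  simp only [scaleOK2, Bool.and_eq_true, List.any_eq_true, List.mem_range, decide_eq_true_eq] at h
  obtain ⟨⟨hb, ha⟩, r, hr, hk, h0⟩ := h
  have key : ∀ c c' : F, c ≠ 0 → c' ≠ 0 → finrank ℂ ↥(J H ρ ψ S a m ⊓ eig ρ ψ (gx H b) c) ≤
      finrank ℂ ↥(J H ρ ψ S a m ⊓ eig ρ ψ (gx H b) c') := by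
    intro c c' hc hc'
    obtain ⟨u, hu⟩ := exists_unit (Nat.eq_of_beq_eq_true hk) hc hc'
    refine finrank_le_of_map (ρ := ρ) (gt H hr u) fun v hv => ⟨⟨gt_Z0 H ρ hr hS u hv.1.1, ?_⟩, ?_⟩
    · have := map_eig (Units.ne_zero _) (fun t => gt_conj H hr (Nat.le_of_ble_eq_true ha) u t) hv.1.2
      simpa [h0] using this
    · rw [← hu]
      exact map_eig (Units.ne_zero _) (fun t => gt_conj H hr (Nat.le_of_ble_eq_true hb) u t) hv.2
  exact le_antisymm (key c c' hc hc') (key c' c hc' hc)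

end CfsgLib.KnownA.MinDegLaced
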